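import Groth.Agent.Ega4dA.FibPair1
import Groth.Agent.Flat2G.SliceSch
import Groth.Agent.Ega4B.DepthBasic

/-! Depth of the local rings of a scheme smooth over an arbitrary base at the points of fibre
codimension at least two. -/

set_option autoImplicit false
universe u

open CategoryTheory CategoryTheory.Limits AlgebraicGeometry TopologicalSpace
open RingTheory.Sequence IsLocalRing

namespace K887.Depth

open Groth.Agent.Ega4dB.FiberStalk Groth.Agent.Flat2G.SliceSeq Groth.Agent.Flat2G.SliceSch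

variable {X S : Scheme.{u}}

theorem smul_top_ne_top (R : Type u) [CommRing R] [IsLocalRing R] :
    (maximalIdeal R • (⊤ : Submodule R R)) ≠ ⊤ := by
  rw [smul_eq_mul, Ideal.mul_top]
  exact Ideal.IsPrime.ne_top'

/-- A regular sequence in the local ring of the fibre lifts to a sequence in the local ring which is
regular modulo the maximal ideal of the base. -/
theorem exists_regMod (f : X ⟶ S) [Smooth f] (x : X) (n : ℕ)
    (hx : (n : WithBot ℕ∞) ≤ ringKrullDim (CInt.fiberStalk f x)) :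
    ∃ hs : List (X.presheaf.stalk x), hs.length = n ∧
      (∀ h ∈ hs, h ∈ maximalIdeal (X.presheaf.stalk x)) ∧ RegMod (fibIdeal f x) hs := by
  have h1 : (n : ℕ∞) ≤ LocCoh.depth (CInt.fiberStalk f x) (CInt.fiberStalk f x) := by
    have h := Groth.Agent.Ega4dA.FibPair1.depth_fiberStalk f x
    rw [← h] at hx
    exact WithBot.coe_le_coe.mp hx
  obtain ⟨rs, hlen, hmem, hreg⟩ :=
    (Groth.Agent.Ega4B.DepthBasic.natCast_le_idealDepth_iff (smul_top_ne_top _) n).mp h1
  obtain ⟨hs, rfl⟩ : ∃ hs : List (X.presheaf.stalk x), hs.map (toFiberStalk f x).hom = rs :=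
    List.map_surjective_iff.mpr (toFiberStalk_surjective f x) rs
  refine ⟨hs, by simpa using hlen, fun h hh => ?_, ?_⟩
  · have h2 := hmem _ (List.mem_map_of_mem hh)
    rw [mem_maximalIdeal, mem_nonunits_iff] at h2 ⊢
    exact fun hu => h2 (hu.map _)
  · rw [← isWeaklyRegular_iff_regMod]
    refine (AddEquiv.isWeaklyRegular_congr (e := (fiberStalkEquiv f x).toAddEquiv) ?_).mpr hreg
    rw [List.forall₂_map_right_iff, List.forall₂_same]
    intro h _ y
    obtain ⟨y, rfl⟩ := Ideal.Quotient.mk_surjective y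
    change fiberStalkEquiv f x (Ideal.Quotient.mk _ (h * y)) =
      (toFiberStalk f x).hom h * fiberStalkEquiv f x (Ideal.Quotient.mk _ y)
    rw [fiberStalkEquiv_mk, fiberStalkEquiv_mk, map_mul]

theorem le_depth_stalk (f : X ⟶ S) [Smooth f] (x : X) (n : ℕ)
    (hx : (n : WithBot ℕ∞) ≤ ringKrullDim (CInt.fiberStalk f x)) :
    (n : ℕ∞) ≤ LocCoh.depth (X.presheaf.stalk x) (X.presheaf.stalk x) := by
  obtain ⟨hs, hlen, hm, hreg⟩ := exists_regMod f x n hx
  obtain ⟨V, hV, U, hU, hxU, e, hs', hgerm, H⟩ :=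
    exists_sliced f x (Flat.stalkMap f x) hs hm hreg
  let _ : Algebra Γ(X, U) (X.presheaf.stalk x) := X.presheaf.algebra_section_stalk ⟨x, hxU⟩
  have : IsLocalization.AtPrime (X.presheaf.stalk x) (hU.primeIdealOf ⟨x, hxU⟩).asIdeal :=
    hU.isLocalization_stalk ⟨x, hxU⟩
  have h1 : IsWeaklyRegular Γ(X, U) hs' := (isWeaklyRegular_iff_regMod_bot hs').mpr (by
    let _ := (f.appLE V U e).hom.toAlgebra
    exact Sliced.regMod (R := Γ(S, V)) H)
  have h2 : IsWeaklyRegular (X.presheaf.stalk x)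
      (hs'.map (algebraMap Γ(X, U) (X.presheaf.stalk x))) :=
    h1.of_isLocalization _ (hU.primeIdealOf ⟨x, hxU⟩).asIdeal.primeCompl
  have h3 : hs'.map (algebraMap Γ(X, U) (X.presheaf.stalk x)) = hs := hgerm
  rw [h3] at h2
  rw [← hlen]
  exact Groth.Agent.Ega4B.DepthBasic.length_le_idealDepth hs h2 hm

end K887.Depth
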