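import Groth.Agent.RhoSh.K887.Extend
import Groth.Agent.SDiv.K476.HomSh6

/-! Modules whose sections extend uniquely over a big open subset: the structure sheaf, and every sheaf Hom
into such a module. -/

set_option autoImplicit false
universe u

open CategoryTheory CategoryTheory.Limits AlgebraicGeometry TopologicalSpace Opposite

namespace K887.DualExt

open K887.Extend Groth.Agent.Ega1.QCohLoc RefHull K476.HomSh1 K476.HomSh6
open Groth.Agent.CohqB.HomSheaf (mkSec comp_mkSec)

variable {X : Scheme.{u}}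

/-- Sections of `N` extend uniquely from `V ⊓ U` to `V`. -/
def ExtMod (N : X.Modules) (U : X.Opens) : Prop :=
  ∀ V : X.Opens, Function.Bijective (res N (inf_le_left : V ⊓ U ≤ V))

theorem bijective_resO_of_ext {U : X.Opens} (h : Ext U) (V : X.Opens) :
    Function.Bijective (Groth.Agent.Ega4dA.GenSec.resO X (inf_le_left : V ⊓ U ≤ V)) := by
  have hd := h.isSchematicallyDense
  refine ⟨hd V, fun s => ?_⟩
  choose W hxW hW hext using h
  have key : ∀ x : X, ∃ t : Γ(X, V ⊓ W x), Groth.Agent.Ega4dA.GenSec.resO X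
      (inf_le_left : (V ⊓ W x) ⊓ U ≤ V ⊓ W x) t =
      Groth.Agent.Ega4dA.GenSec.resO X (inf_le_inf_right U inf_le_left :
        (V ⊓ W x) ⊓ U ≤ V ⊓ U) s := fun x =>
    (hext x (V ⊓ W x) inf_le_right).2 _
  choose t ht using key
  obtain ⟨g, hg⟩ := Groth.Agent.Ega4dA.GenSec.existsO_glue (fun x => V ⊓ W x)
    (fun x => inf_le_left)
    (fun x hx => Opens.mem_iSup.mpr ⟨x, hx, hxW x⟩) t (fun x y => by
      apply hd
      change Groth.Agent.Ega4dA.GenSec.resO X (inf_le_left :
        ((V ⊓ W x) ⊓ (V ⊓ W y)) ⊓ U ≤ (V ⊓ W x) ⊓ (V ⊓ W y)) _ =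
        Groth.Agent.Ega4dA.GenSec.resO X (inf_le_left :
        ((V ⊓ W x) ⊓ (V ⊓ W y)) ⊓ U ≤ (V ⊓ W x) ⊓ (V ⊓ W y)) _
      have h1 := congrArg (Groth.Agent.Ega4dA.GenSec.resO X (inf_le_inf_right U inf_le_left :
        ((V ⊓ W x) ⊓ (V ⊓ W y)) ⊓ U ≤ (V ⊓ W x) ⊓ U)) (ht x)
      have h2 := congrArg (Groth.Agent.Ega4dA.GenSec.resO X (inf_le_inf_right U inf_le_right :
        ((V ⊓ W x) ⊓ (V ⊓ W y)) ⊓ U ≤ (V ⊓ W y) ⊓ U)) (ht y)
      simp only [Groth.Agent.Ega4dA.GenSec.resO_resO] at h1 h2 ⊢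
      rw [h1, h2])
  refine ⟨g, ?_⟩
  refine Groth.Agent.Ega4dA.GenSec.eqO_of_locally fun x hx =>
    ⟨(V ⊓ W x) ⊓ U, inf_le_inf_right U inf_le_left, ⟨⟨hx.1, hxW x⟩, hx.2⟩, ?_⟩
  rw [← ht x, ← hg x]
  simp only [Groth.Agent.Ega4dA.GenSec.resO_resO]

theorem extMod_structureModule {U : X.Opens} (h : Ext U) : ExtMod (Coh.structureModule X) U :=
  fun V => bijective_resO_of_ext h V

section homSh

variable {N : X.Modules} {U : X.Opens} (hN : ExtMod N U) (M : X.Modules)

include hN in
theorem inj {V : X.Opens} {s t : Γ(N, V)} (h : res N (inf_le_left : V ⊓ U ≤ V) s =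
    res N (inf_le_left : V ⊓ U ≤ V) t) : s = t := (hN V).1 h

include hN in
theorem surj (V : X.Opens) (s : Γ(N, V ⊓ U)) :
    ∃ t : Γ(N, V), res N (inf_le_left : V ⊓ U ≤ V) t = s := (hN V).2 s

/-- The extension of a section. -/
noncomputable def ext (V : X.Opens) (s : Γ(N, V ⊓ U)) : Γ(N, V) := (surj hN V s).choose

theorem res_ext (V : X.Opens) (s : Γ(N, V ⊓ U)) :
    res N (inf_le_left : V ⊓ U ≤ V) (ext hN V s) = s := (surj hN V s).choose_spec

variable {M} in
/-- The extension of a section of the sheaf Hom. -/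
noncomputable def extFun {V : X.Opens} (g : Γ(homSh M N, V ⊓ U)) (W : X.Opens) (hW : W ≤ V) :
    Γ(M, W) →ₗ[Γ(X, W)] Γ(N, W) where
  toFun m := ext hN W (secMap g (inf_le_inf_right U hW)
    (res M (inf_le_left : W ⊓ U ≤ W) m))
  map_add' m m' := inj hN (by
    rw [res_ext, map_add, map_add, map_add, res_ext, res_ext])
  map_smul' r m := inj hN (by
    rw [RingHom.id_apply, res_ext, res_smul, res_smul, map_smul, res_ext])

theorem extFun_apply {V : X.Opens} (g : Γ(homSh M N, V ⊓ U)) (W : X.Opens) (hW : W ≤ V)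
    (m : Γ(M, W)) : extFun hN g W hW m = ext hN W (secMap g (inf_le_inf_right U hW)
    (res M (inf_le_left : W ⊓ U ≤ W) m)) := rfl

include hN in
theorem extMod_homSh : ExtMod (homSh M N) U := by
  intro V
  constructor
  · intro g h hgh
    refine homSec_ext_secMap fun W hW m => inj hN ?_
    rw [← secMap_res, ← secMap_res, ← secMap_res_left g inf_le_left (inf_le_inf_right U hW), hgh,
      secMap_res_left]
  · intro g
    let s : Γ(Groth.Agent.CohqB.HomSheaf.homSheaf M N, V) := mkSec (fun W hW => extFun hN g W hW)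
      (fun W W' hW h m => by
        refine inj hN ?_
        change res N _ (extFun hN g W' _ (res M h m)) = res N _ (res N h (extFun hN g W hW m))
        rw [extFun_apply, res_ext, res_res, res_res,
          ← res_res N (inf_le_left : W ⊓ U ≤ W) (inf_le_inf_right U h : W' ⊓ U ≤ W ⊓ U),
          extFun_apply, res_ext, ← secMap_res, res_res])
    refine ⟨ofComp V s, homSec_ext_secMap fun W hW m => ?_⟩
    rw [secMap_res_left, secMap_ofComp]
    change extFun hN g W (hW.trans inf_le_left) m = _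
    refine inj hN ?_
    rw [extFun_apply, res_ext, secMap_res]

end homSh

theorem ExtMod.isIso_unit {N : X.Modules} {U : X.Opens} (h : ExtMod N U) :
    IsIso ((Scheme.Modules.restrictAdjunction U.ι).unit.app N) := by
  rw [Scheme.Modules.Hom.isIso_iff_isIso_app]
  intro V
  rw [ConcreteCategory.isIso_iff_bijective, Scheme.Modules.restrictAdjunction_unit_app_app]
  have e : U.ι ''ᵁ U.ι ⁻¹ᵁ V = V ⊓ U := by
    rw [Scheme.Hom.image_preimage_eq_opensRange_inf, Scheme.Opens.opensRange_ι, inf_comm]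
  have key : ∀ (W : X.Opens) (hW : W ≤ V), W = V ⊓ U →
      Function.Bijective (N.presheaf.map (homOfLE hW).op) := by
    rintro W hW rfl
    exact h V
  exact key _ _ e

end K887.DualExt
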