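import Groth.Agent.Ega4dA.FibPair
import Groth.Agent.Ega4dB.SchDense
import Groth.Agent.Ega4late.H537.SchDensePull

/-! Extension of functions and of sections of affine morphisms over a big open subset of a smooth
scheme over an arbitrary base. -/

set_option autoImplicit false
universe u

open CategoryTheory CategoryTheory.Limits AlgebraicGeometry TopologicalSpace

namespace K887.Extend

open Groth.Agent.Ega4dA.GenSec Groth.Agent.Ega4dA.ParaSmooth

variable {X : Scheme.{u}}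

theorem bijective_resO_of_eq {V W : X.Opens} (h : V ≤ W) (e : V = W) :
    Function.Bijective (resO X h) := by
  subst e
  have : resO X h = id := by
    funext s
    simp
  rw [this]
  exact Function.bijective_id

theorem extOn_of_le {V U : X.Opens} (h : V ≤ U) : ExtOn V U := fun _ hW =>
  bijective_resO_of_eq _ (inf_eq_left.mpr (hW.trans h))

theorem extOn_mono_right {V R U : X.Opens} (h : ExtOn V R) (hRU : R ≤ U) : ExtOn V U := by
  intro W hW
  have h1 := h W hW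
  have h2 := h (W ⊓ U) (inf_le_left.trans hW)
  have h3 : (W ⊓ U) ⊓ R = W ⊓ R := by rw [inf_assoc, inf_eq_right.mpr hRU]
  have h4 : Function.Bijective (resO X (h3.ge : W ⊓ R ≤ (W ⊓ U) ⊓ R)) :=
    bijective_resO_of_eq _ h3.symm
  have h5 : Function.Bijective (resO X (inf_le_inf_left W hRU : W ⊓ R ≤ W ⊓ U)) := by
    have : resO X (inf_le_inf_left W hRU : W ⊓ R ≤ W ⊓ U) =
        resO X (h3.ge : W ⊓ R ≤ (W ⊓ U) ⊓ R) ∘ resO X (inf_le_left : (W ⊓ U) ⊓ R ≤ W ⊓ U) := by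
      funext s
      simp
    rw [this]
    exact h4.comp h2
  have h6 : resO X (inf_le_left : W ⊓ R ≤ W) =
      resO X (inf_le_inf_left W hRU : W ⊓ R ≤ W ⊓ U) ∘ resO X (inf_le_left : W ⊓ U ≤ W) := by
    funext s
    simp
  rw [h6] at h1
  exact (Function.Bijective.of_comp_iff' h5 _).mp h1

/-- Functions extend uniquely across the complement of `U`, locally on `X`. -/
def Ext (U : X.Opens) : Prop :=
  ∀ x : X, ∃ V : X.Opens, x ∈ V ∧ IsAffineOpen V ∧ ExtOn V U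

/-- A big open subset has the extension property. -/
theorem ext_of_smooth {S : Scheme.{u}} (f : X ⟶ S) [Smooth f] (U : X.Opens)
    (hU : ∀ x : X, x ∉ U → (2 : WithBot ℕ∞) ≤ ringKrullDim (CInt.fiberStalk f x)) : Ext U := by
  intro x
  by_cases hx : x ∈ U
  · obtain ⟨V, hV, hxV, hVU⟩ := exists_isAffineOpen_mem_and_subset (x := x) (U := U) hx
    exact ⟨V, hxV, hV, extOn_of_le hVU⟩
  · let Y : Closeds X := ⟨(U : Set X)ᶜ, U.isOpen.isClosed_compl⟩
    obtain ⟨V₀, hy, f₁, f₂, hV, hle, hext, -⟩ :=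
      Groth.Agent.Ega4dA.FibPair.exists_pair f Y (fun y hy => hU y hy) x hx
    refine ⟨V₀, hy, hV, extOn_mono_right hext (hle.trans ?_)⟩
    intro z hz
    by_contra hzU
    exact hz hzU

theorem Ext.isSchematicallyDense {U : X.Opens} (h : Ext U) : CInt.IsSchematicallyDense U := by
  intro V s t hst
  refine eqO_of_locally fun x hx => ?_
  obtain ⟨W, hxW, -, hW⟩ := h x
  refine ⟨V ⊓ W, inf_le_left, ⟨hx, hxW⟩, (hW (V ⊓ W) inf_le_right).1 ?_⟩
  have h1 := congrArg (resO X (inf_le_inf_right U inf_le_left : (V ⊓ W) ⊓ U ≤ V ⊓ U))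
    (show resO X (inf_le_left : V ⊓ U ≤ V) s = resO X (inf_le_left : V ⊓ U ≤ V) t from hst)
  simpa using h1

/-- Morphisms to an affine scheme extend along a morphism inducing a bijection on global functions. -/
theorem exists_ext_affine {V W Z : Scheme.{u}} [IsAffine Z] (j : W ⟶ V)
    (hj : IsIso j.appTop) (s : W ⟶ Z) : ∃ t : V ⟶ Z, j ≫ t = s := by
  refine ⟨V.toSpecΓ ≫ Spec.map (s.appTop ≫ inv j.appTop) ≫ Z.isoSpec.inv, ?_⟩
  rw [reassoc_of% Scheme.toSpecΓ_naturality j, ← Spec.map_comp_assoc, Category.assoc,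
    IsIso.inv_hom_id, Category.comp_id, ← reassoc_of% Scheme.toSpecΓ_naturality s,
    ← Scheme.isoSpec_hom, Iso.hom_inv_id, Category.comp_id]

theorem hom_ext_affine {V W Z : Scheme.{u}} [IsAffine Z] (j : W ⟶ V)
    (hj : Function.Injective j.appTop) {s t : V ⟶ Z} (h : j ≫ s = j ≫ t) : s = t := by
  apply ext_of_isAffine
  ext x
  apply hj
  have h1 := congrArg Scheme.Hom.appTop h
  rw [Scheme.Hom.comp_appTop, Scheme.Hom.comp_appTop] at h1
  exact congr($h1 x)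

/-- Gluing of morphisms along an open cover. -/
theorem glue {Y : Scheme.{u}} {ι : Type u} (V : ι → X.Opens) (hV : ⨆ i, V i = ⊤)
    (t : ∀ i, (V i).toScheme ⟶ Y)
    (h : ∀ i j, X.homOfLE (inf_le_left : V i ⊓ V j ≤ V i) ≫ t i =
      X.homOfLE (inf_le_right : V i ⊓ V j ≤ V j) ≫ t j) :
    ∃ g : X ⟶ Y, ∀ i, (V i).ι ≫ g = t i := by
  have key : ∀ i j, pullback.fst (V i).ι (V j).ι ≫ t i = pullback.snd (V i).ι (V j).ι ≫ t j := by
    intro i j
    have h1 := isPullback_opens_inf (V i) (V j)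
    rw [← cancel_epi h1.isoPullback.hom, h1.isoPullback_hom_fst_assoc,
      h1.isoPullback_hom_snd_assoc]
    exact h i j
  have hV' : IsOpenCover V := hV
  exact ⟨(X.openCoverOfIsOpenCover V hV').glueMorphisms t key,
    fun i => (X.openCoverOfIsOpenCover V hV').ι_glueMorphisms t key i⟩

theorem isSchematicallyDense_preimage_ι {U : X.Opens} (hU : CInt.IsSchematicallyDense U)
    (W : X.Opens) : CInt.IsSchematicallyDense (W.ι ⁻¹ᵁ U) :=
  Groth.Agent.Ega4late.H537.SchDensePull.isSchematicallyDense_preimage W.ι U hU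

/-- Two morphisms over `X` from an open subscheme to a separated `X`-scheme which agree over a
schematically dense open are equal. -/
theorem hom_ext_of_dense {U : X.Opens} (hU : CInt.IsSchematicallyDense U) {Y : Scheme.{u}}
    (p : Y ⟶ X) [IsSeparated p] (W : X.Opens) {a b : W.toScheme ⟶ Y} (hab : a ≫ p = b ≫ p)
    (h : X.homOfLE (inf_le_left : W ⊓ U ≤ W) ≫ a = X.homOfLE (inf_le_left : W ⊓ U ≤ W) ≫ b) :
    a = b := by
  refine Groth.Agent.Ega4dB.SchDense.ext_of_isSchematicallyDense p hab (W.ι ⁻¹ᵁ U)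
    (isSchematicallyDense_preimage_ι hU W) ?_
  have hr : Set.range ((W.ι ⁻¹ᵁ U).ι ≫ W.ι) ⊆ Set.range (W ⊓ U).ι := by
    rintro _ ⟨y, rfl⟩
    rw [Scheme.Opens.range_ι]
    exact ⟨y.1.2, y.2⟩
  let l : (W.ι ⁻¹ᵁ U).toScheme ⟶ (W ⊓ U).toScheme := IsOpenImmersion.lift (W ⊓ U).ι _ hr
  have hl : l ≫ X.homOfLE (inf_le_left : W ⊓ U ≤ W) = (W.ι ⁻¹ᵁ U).ι := by
    rw [← cancel_mono W.ι, Category.assoc, Scheme.homOfLE_ι, IsOpenImmersion.lift_fac]
  rw [← hl, Category.assoc, Category.assoc, h]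

theorem isIso_appTop_homOfLE {V U : X.Opens} (hext : ExtOn V U) :
    IsIso (X.homOfLE (inf_le_left : V ⊓ U ≤ V)).appTop := by
  have hV : V.ι ''ᵁ ⊤ = V := V.ι_image_top
  have hVU : (V ⊓ U).ι ''ᵁ ⊤ = V ⊓ U := (V ⊓ U).ι_image_top
  have h1 := hext (V.ι ''ᵁ ⊤) hV.le
  have e : (V ⊓ U).ι ''ᵁ ⊤ = V.ι ''ᵁ ⊤ ⊓ U := by rw [hV, hVU]
  have h2 := bijective_resO_of_eq (X := X) e.le e
  have h3 := h2.comp h1
  have h4 : Function.Bijective
      (X.presheaf.map (homOfLE <| X.ι_image_homOfLE_le_ι_image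
        (inf_le_left : V ⊓ U ≤ V) ⊤).op) := by
    have h4 : resO X e.le ∘ resO X (inf_le_left : V.ι ''ᵁ ⊤ ⊓ U ≤ V.ι ''ᵁ ⊤) =
        resO X (e.le.trans inf_le_left) := by
      funext s
      exact resO_resO _ _ _
    rw [h4] at h3
    exact h3
  have h5 : Function.Bijective (X.homOfLE (inf_le_left : V ⊓ U ≤ V)).appTop := by
    rw [Scheme.homOfLE_appTop]
    exact h4
  exact (ConcreteCategory.isIso_iff_bijective _).mpr h5

/-- A section over `U` of an affine morphism extends locally. -/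
theorem exists_local {U : X.Opens} {Y : Scheme.{u}} (p : Y ⟶ X) [IsAffineHom p]
    (s : U.toScheme ⟶ Y) (hs : s ≫ p = U.ι) (V : X.Opens) (hV : IsAffineOpen V)
    (hext : ExtOn V U) : ∃ t : V.toScheme ⟶ Y, t ≫ p = V.ι ∧
      X.homOfLE (inf_le_left : V ⊓ U ≤ V) ≫ t = X.homOfLE (inf_le_right : V ⊓ U ≤ U) ≫ s := by
  let j : (V ⊓ U).toScheme ⟶ V.toScheme := X.homOfLE inf_le_left
  have hj : IsIso j.appTop := isIso_appTop_homOfLE hext
  have hr : Set.range (X.homOfLE (inf_le_right : V ⊓ U ≤ U) ≫ s) ⊆ Set.range (p ⁻¹ᵁ V).ι := by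
    rintro _ ⟨y, rfl⟩
    rw [Scheme.Opens.range_ι]
    change p (s (X.homOfLE (inf_le_right : V ⊓ U ≤ U) y)) ∈ V
    have h1 : (X.homOfLE (inf_le_right : V ⊓ U ≤ U) ≫ s ≫ p) y = y.1 := by
      rw [hs, Scheme.homOfLE_ι]
      rfl
    rw [Scheme.Hom.comp_apply, Scheme.Hom.comp_apply] at h1
    rw [h1]
    exact y.2.1
  let s' : (V ⊓ U).toScheme ⟶ (p ⁻¹ᵁ V).toScheme := IsOpenImmersion.lift (p ⁻¹ᵁ V).ι _ hr
  have hs' : s' ≫ (p ⁻¹ᵁ V).ι = X.homOfLE (inf_le_right : V ⊓ U ≤ U) ≫ s :=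
    IsOpenImmersion.lift_fac _ _ _
  have : IsAffine (p ⁻¹ᵁ V).toScheme := hV.preimage p
  have : IsAffine V.toScheme := hV
  obtain ⟨t, ht⟩ := exists_ext_affine j hj s'
  refine ⟨t ≫ (p ⁻¹ᵁ V).ι, ?_, ?_⟩
  · have h1 : t ≫ p ∣_ V = 𝟙 _ := by
      apply hom_ext_affine j ((ConcreteCategory.bijective_of_isIso j.appTop).1)
      rw [reassoc_of% ht, Category.comp_id, ← cancel_mono V.ι, Category.assoc, morphismRestrict_ι,
        reassoc_of% hs', hs, Scheme.homOfLE_ι, Scheme.homOfLE_ι]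
    rw [Category.assoc, ← morphismRestrict_ι, reassoc_of% h1]
  · rw [← hs', ← ht, Category.assoc]

/-- Sections of affine morphisms extend uniquely. -/
theorem existsUnique_section {U : X.Opens} (hU : Ext U) {Y : Scheme.{u}} (p : Y ⟶ X)
    [IsAffineHom p] (s : U.toScheme ⟶ Y) (hs : s ≫ p = U.ι) :
    ∃! t : X ⟶ Y, t ≫ p = 𝟙 X ∧ U.ι ≫ t = s := by
  have hd := hU.isSchematicallyDense
  choose V hxV hV hext using hU
  choose t ht ht' using fun x => exists_local p s hs (V x) (hV x) (hext x)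
  have hcov : ⨆ x, V x = ⊤ := by
    rw [eq_top_iff]
    intro x _
    exact Opens.mem_iSup.mpr ⟨x, hxV x⟩
  have hcompat : ∀ x y, X.homOfLE (inf_le_left : V x ⊓ V y ≤ V x) ≫ t x =
      X.homOfLE (inf_le_right : V x ⊓ V y ≤ V y) ≫ t y := by
    intro x y
    apply hom_ext_of_dense hd p
    · rw [Category.assoc, Category.assoc, ht, ht, Scheme.homOfLE_ι, Scheme.homOfLE_ι]
    · have e1 : X.homOfLE (inf_le_left : (V x ⊓ V y) ⊓ U ≤ V x ⊓ V y) ≫
          X.homOfLE (inf_le_left : V x ⊓ V y ≤ V x) =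
          X.homOfLE (inf_le_inf_right U inf_le_left : (V x ⊓ V y) ⊓ U ≤ V x ⊓ U) ≫
            X.homOfLE (inf_le_left : V x ⊓ U ≤ V x) := by
        rw [Scheme.homOfLE_homOfLE, Scheme.homOfLE_homOfLE]
      have e2 : X.homOfLE (inf_le_left : (V x ⊓ V y) ⊓ U ≤ V x ⊓ V y) ≫
          X.homOfLE (inf_le_right : V x ⊓ V y ≤ V y) =
          X.homOfLE (inf_le_inf_right U inf_le_right : (V x ⊓ V y) ⊓ U ≤ V y ⊓ U) ≫
            X.homOfLE (inf_le_left : V y ⊓ U ≤ V y) := by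
        rw [Scheme.homOfLE_homOfLE, Scheme.homOfLE_homOfLE]
      rw [reassoc_of% e1, reassoc_of% e2, ht', ht', ← Category.assoc, ← Category.assoc,
        Scheme.homOfLE_homOfLE, Scheme.homOfLE_homOfLE]
  obtain ⟨g, hg⟩ := glue V hcov t hcompat
  have hV' : IsOpenCover V := hcov
  have hgp : g ≫ p = 𝟙 X := by
    have key : ∀ x : X, (V x).ι ≫ g ≫ p = (V x).ι ≫ 𝟙 X := by
      intro x
      rw [reassoc_of% hg, ht, Category.comp_id]
    exact (X.openCoverOfIsOpenCover V hV').hom_ext _ _ fun x => key x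
  have hgU : U.ι ≫ g = s := by
    have key : ∀ x : X, X.homOfLE (inf_le_right : V x ⊓ U ≤ U) ≫ U.ι ≫ g =
        X.homOfLE (inf_le_right : V x ⊓ U ≤ U) ≫ s := by
      intro x
      rw [← ht', Scheme.homOfLE_ι_assoc, ← hg, Scheme.homOfLE_ι_assoc]
    have hcov' : IsOpenCover fun x => U.ι ⁻¹ᵁ (V x) := by
      rw [IsOpenCover, eq_top_iff]
      rintro x -
      exact Opens.mem_iSup.mpr ⟨x.1, hxV x.1⟩
    have key2 : ∀ x : X, (U.ι ⁻¹ᵁ (V x)).ι ≫ U.ι ≫ g = (U.ι ⁻¹ᵁ (V x)).ι ≫ s := by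
      intro x
      have hr : Set.range ((U.ι ⁻¹ᵁ (V x)).ι ≫ U.ι) ⊆ Set.range (V x ⊓ U).ι := by
        rintro _ ⟨y, rfl⟩
        rw [Scheme.Opens.range_ι]
        exact ⟨y.2, y.1.2⟩
      let l : (U.ι ⁻¹ᵁ (V x)).toScheme ⟶ (V x ⊓ U).toScheme :=
        IsOpenImmersion.lift (V x ⊓ U).ι _ hr
      have hl : l ≫ X.homOfLE (inf_le_right : V x ⊓ U ≤ U) = (U.ι ⁻¹ᵁ (V x)).ι := by
        rw [← cancel_mono U.ι, Category.assoc, Scheme.homOfLE_ι, IsOpenImmersion.lift_fac]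
      rw [← hl, Category.assoc, Category.assoc, key x]
    exact (U.toScheme.openCoverOfIsOpenCover _ hcov').hom_ext _ _ fun x => key2 x
  refine ⟨g, ⟨hgp, hgU⟩, ?_⟩
  rintro g' ⟨h1, h2⟩
  exact Groth.Agent.Ega4dB.SchDense.ext_of_isSchematicallyDense p (h1.trans hgp.symm) U hd
    (h2.trans hgU.symm)

end K887.Extend
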