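import Groth.Agent.RhoSh.K887.ZeroCov

/-! Local representability by a closed subscheme of a flat-local condition on morphisms into a
proper scheme (general form of `ZeroCov`). -/

set_option autoImplicit false
universe u

open CategoryTheory CategoryTheory.Limits AlgebraicGeometry TopologicalSpace
open scoped TensorProduct

namespace K887.LocRep

open K887.ZeroCov K887.ZeroRep K887.ZeroLoc

/-- A condition on morphisms into `Y`, stable under composition, and flat-local over the base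
changes of `q`. -/
structure Loc {Y S : Scheme.{u}} (q : Y ⟶ S) (Pr : ∀ ⦃W : Scheme.{u}⦄, (W ⟶ Y) → Prop) :
    Prop where
  comp : ∀ {W' W : Scheme.{u}} (h : W' ⟶ W) (w : W ⟶ Y), Pr w → Pr (h ≫ w)
  cover : ∀ {T : Scheme.{u}} (g : T ⟶ S), (∀ x : ↥(pullback q g), ∃ (W' : Scheme.{u})
    (h : W' ⟶ pullback q g) (x' : W'), Flat h ∧ h x' = x ∧ Pr (h ≫ pullback.fst q g)) →
      Pr (pullback.fst q g)

section

variable {Y S : Scheme.{u}} {q : Y ⟶ S} {Pr : ∀ ⦃W : Scheme.{u}⦄, (W ⟶ Y) → Prop}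
  (hP : Loc q Pr)

include hP

theorem Loc.of_eq {W W' : Scheme.{u}} {w' : W' ⟶ Y} (h : W' ⟶ W) {w : W ⟶ Y} (hw : Pr w)
    (e : h ≫ w = w') : Pr w' := e ▸ hP.comp h w hw

theorem Loc.isFppfLocal : Groth.Agent.Sga3B.Parab.EtClosed.IsFppfLocal
    (fun {T : Scheme.{u}} (g : T ⟶ S) => Pr (pullback.fst q g)) := by
  have key : ∀ {T : Scheme.{u}} (g : T ⟶ S), (∀ t : T, ∃ (T' : Scheme.{u}) (h : T' ⟶ T) (t' : T'),
      Flat h ∧ h t' = t ∧ Pr (pullback.fst q (h ≫ g))) → Pr (pullback.fst q g) := by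
    intro T g H
    refine hP.cover g fun x => ?_
    obtain ⟨T', h, t', h1, h2, h3⟩ := H (pullback.snd q g x)
    obtain ⟨x', hx', -⟩ := Scheme.Pullback.exists_preimage_pullback
      (f := pullback.snd q g) (g := h) x t' h2.symm
    refine ⟨pullback (pullback.snd q g) h, pullback.fst _ _, x', inferInstance, hx', ?_⟩
    refine hP.of_eq (pullback.lift (pullback.fst _ _ ≫ pullback.fst q g) (pullback.snd _ _) ?_) h3
      (pullback.lift_fst _ _ _)
    rw [Category.assoc, pullback.condition, ← pullback.condition_assoc]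
  constructor
  · intro T' T h g hg
    refine hP.of_eq (pullback.lift (pullback.fst _ _) (pullback.snd _ _ ≫ h) ?_) hg
      (pullback.lift_fst _ _ _)
    rw [pullback.condition, Category.assoc]
  · intro T g 𝒰 h
    refine key g fun t => ?_
    obtain ⟨x', hx'⟩ := 𝒰.covers t
    exact ⟨_, 𝒰.f (𝒰.idx t), x', inferInstance, hx', h _⟩
  · intro T' T h g h1 h2 _ _ h3
    refine key g fun t => ?_
    obtain ⟨t', ht'⟩ := h.surjective t
    exact ⟨T', h, t', h1, ht', h3⟩

theorem Loc.baseChange {S' : Scheme.{u}} (j : S' ⟶ S) :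
    Loc (pullback.snd q j) (fun {W : Scheme.{u}} (w : W ⟶ pullback q j) =>
      Pr (w ≫ pullback.fst q j)) := by
  constructor
  · intro W' W h w hw
    rw [Category.assoc]
    exact hP.comp h _ hw
  · intro T g H
    have h1 : Pr (pullback.fst q (g ≫ j)) := by
      refine hP.cover _ fun x => ?_
      obtain ⟨W', h, x', hf, hx, hp⟩ := H ((pullbackLeftPullbackSndIso q j g).inv x)
      refine ⟨W', h ≫ (pullbackLeftPullbackSndIso q j g).hom, x', inferInstance, ?_, ?_⟩
      · rw [Scheme.Hom.comp_apply, hx, ← Scheme.Hom.comp_apply, Iso.inv_hom_id]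
        rfl
      · rw [Category.assoc, pullbackLeftPullbackSndIso_hom_fst, ← Category.assoc]
        exact hp
    exact hP.of_eq (pullbackLeftPullbackSndIso q j g).hom h1
      (pullbackLeftPullbackSndIso_hom_fst _ _ _)

end

section

variable {R A R' S' : Type u} [CommRing R] [CommRing A] [CommRing R'] [CommRing S']
  [Algebra R A] [Algebra R R'] [Algebra A S'] [Algebra R' S'] [Algebra R S']
  [IsScalarTower R A S'] [IsScalarTower R R' S'] {Y : Scheme.{u}}
  {q : Y ⟶ Spec (CommRingCat.of R)} (v : Spec (CommRingCat.of A) ⟶ Y) (hv : v ≫ q = sp R A)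
  {Pr : ∀ ⦃W : Scheme.{u}⦄, (W ⟶ Y) → Prop} (hP : Loc q Pr)

include hP

/-- The condition may be tested on the cover. -/
theorem Loc.iff [Flat (kmap (R' := R') (S' := S') q v hv)]
    {T : Scheme.{u}} (g : T ⟶ Spec (CommRingCat.of R'))
    (hg : ∀ y : ↥(pullback q (sp R R')), pullback.snd q (sp R R') y ∈ Set.range g →
      y ∈ Set.range (kmap (R' := R') (S' := S') q v hv)) :
    Pr (pullback.fst (sp R' S') g ≫ sp A S' ≫ v) ↔ Pr (pullback.fst q (g ≫ sp R R')) := by
  constructor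
  · intro h
    refine hP.cover _ fun x => ?_
    let b : pullback q (g ≫ sp R R') ⟶ pullback q (sp R R') :=
      pullback.lift (pullback.fst _ _) (pullback.snd _ _ ≫ g) (by
        rw [pullback.condition, Category.assoc])
    have hb1 : b ≫ pullback.fst q (sp R R') = pullback.fst _ _ := pullback.lift_fst _ _ _
    have hb2 : b ≫ pullback.snd q (sp R R') = pullback.snd _ _ ≫ g := pullback.lift_snd _ _ _
    obtain ⟨z, hz⟩ := hg (b x) ⟨pullback.snd q (g ≫ sp R R') x, by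
      rw [← Scheme.Hom.comp_apply, ← Scheme.Hom.comp_apply, hb2]⟩
    obtain ⟨x', -, hx'⟩ := Scheme.Pullback.exists_preimage_pullback
      (f := kmap (R' := R') (S' := S') q v hv) (g := b) z x hz
    refine ⟨_, pullback.snd (kmap (R' := R') (S' := S') q v hv) b, x', inferInstance, hx', ?_⟩
    refine hP.of_eq (pullback.lift (pullback.fst _ _) (pullback.snd _ _ ≫ pullback.snd _ _) ?_)
      h ?_
    · rw [Category.assoc, ← hb2, ← pullback.condition_assoc, kmap_snd]
    · rw [pullback.lift_fst_assoc, ← kmap_fst (R' := R') q v hv, pullback.condition_assoc, hb1]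
  · intro h
    refine hP.of_eq (pullback.lift (pullback.fst _ _ ≫ sp A S' ≫ v) (pullback.snd _ _) ?_) h
      (pullback.lift_fst _ _ _)
    rw [Category.assoc, w_eq q v hv (R' := R'), pullback.condition_assoc]

theorem Loc.hfac_aux (w : Spec (CommRingCat.of S') ⟶ Y)
    {T T' : Scheme.{u}} (h : T' ⟶ T) (g : T ⟶ Spec (CommRingCat.of R'))
    (hg :  Pr (pullback.fst (sp R' S') g ≫ w)) :
    Pr (pullback.fst (sp R' S') (h ≫ g) ≫ w) := by
  refine hP.of_eq (pullback.lift (pullback.fst _ _) (pullback.snd _ _ ≫ h) ?_) hg ?_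
  · rw [pullback.condition, Category.assoc]
  · rw [pullback.lift_fst_assoc]

theorem Loc.hfac (w : Spec (CommRingCat.of S') ⟶ Y) (I : Ideal R')
    (hI : ∀ (B : CommRingCat.{u}) (φ : CommRingCat.of R' ⟶ B),
      Pr (pullback.fst (sp R' S') (Spec.map φ) ≫ w) ↔
        I.map φ.hom = ⊥) {T : Scheme.{u}} (g : T ⟶ Spec (CommRingCat.of R')) :
    (∃ g' : T ⟶ Spec (CommRingCat.of (R' ⧸ I)),
      g' ≫ Spec.map (CommRingCat.ofHom (Ideal.Quotient.mk I)) = g) ↔
      Pr (pullback.fst (sp R' S') g ≫ w) :=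
  exists_factor_iff (A := CommRingCat.of R') I
    (fun {T} (g : T ⟶ Spec (CommRingCat.of R')) => Pr (pullback.fst (sp R' S') g ≫ w))
    (fun h g hg => hP.hfac_aux w h g hg) hI g

end

/-- Étale-local representability, core. -/
theorem Loc.core {R A R' S' : Type u} [CommRing R] [CommRing A] [CommRing R'] [CommRing S']
    [Algebra R A] [Algebra R R'] [Algebra A S'] [Algebra R' S'] [Algebra R S']
    [IsScalarTower R A S'] [IsScalarTower R R' S'] {Y : Scheme.{u}}
    (q : Y ⟶ Spec (CommRingCat.of R)) [IsProper q]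
    (v : Spec (CommRingCat.of A) ⟶ Y) [Etale v] [Surjective v] (hv : v ≫ q = sp R A)
    {Pr : ∀ ⦃W : Scheme.{u}⦄, (W ⟶ Y) → Prop} (hP : Loc q Pr)
    (p : Ideal R) [hp : p.IsPrime] (p' : Ideal R') [hp' : p'.IsPrime]
    (hnhd : FlatCA.IsEtaleNhd R R' p p') [Algebra.Etale A S']
    (hcov : ∀ (Q : Ideal A) [Q.IsPrime], Q.LiesOver p →
      ∃ (Q' : Ideal S') (_ : Q'.IsPrime), Q'.LiesOver Q ∧ Q'.LiesOver p')
    (I : Ideal R')
    (hI : ∀ (B : CommRingCat.{u}) (φ : CommRingCat.of R' ⟶ B),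
      Pr (pullback.fst (sp R' S') (Spec.map φ) ≫ sp A S' ≫ v) ↔ I.map φ.hom = ⊥)
    (s : ↥(Spec (CommRingCat.of R))) (hs : s.asIdeal = p) :
    ∃ (T' Z' : Scheme.{u}) (e : T' ⟶ Spec (CommRingCat.of R)) (i : Z' ⟶ T'), Etale e ∧
      s ∈ Set.range e ∧ IsClosedImmersion i ∧ ∀ ⦃T : Scheme.{u}⦄ (g : T ⟶ T'),
        (∃ g' : T ⟶ Z', g' ≫ i = g) ↔ Pr (pullback.fst q (g ≫ e)) := by
  have hR' : Algebra.Etale R R' := Groth.Agent.Flat2B.EtaleNhd.etale hnhd
  have hlies : p'.LiesOver p := Groth.Agent.Flat2B.EtaleNhd.liesOver hnhd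
  have hk : Etale (kmap (R' := R') (S' := S') q v hv) := inferInstance
  obtain ⟨s', hs'⟩ : ∃ s' : ↥(Spec (CommRingCat.of R')), s' = ⟨p', hp'⟩ := ⟨_, rfl⟩
  obtain ⟨D, hpD, hD⟩ := exists_nhd (pullback.snd q (sp R R'))
    (pullback.snd q (sp R R')).isClosedMap (Set.range (kmap (R' := R') (S' := S') q v hv))
    (kmap (R' := R') (S' := S') q v hv).isOpenMap.isOpen_range s'
    (fun y hy => mem_range_kmap q v hv p p' hnhd hcov y (hy.trans hs'))
  have hss' : sp R R' s' = s := by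
    subst hs'
    exact PrimeSpectrum.ext (hlies.over.symm.trans hs.symm)
  have hetR : Etale (sp R R') := etale_specMap
  have hm : IsClosedImmersion (Spec.map (CommRingCat.ofHom (Ideal.Quotient.mk I))) :=
    IsClosedImmersion.spec_of_surjective _ Ideal.Quotient.mk_surjective
  obtain ⟨Z', i, hi, H⟩ := rep_open (Spec.map (CommRingCat.ofHom (Ideal.Quotient.mk I))) D
    (fun {T} (g : T ⟶ Spec (CommRingCat.of R')) => Pr (pullback.fst q (g ≫ sp R R')))
    (fun {T} g hg => (hP.hfac (sp A S' ≫ v) I hI g).trans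
      (hP.iff v hv g (by
        rintro y ⟨t, ht⟩
        exact hD y (ht ▸ hg t))))
  refine ⟨D.toScheme, Z', D.ι ≫ sp R R', i, inferInstance, ⟨⟨s', hpD⟩, hss'⟩, hi, fun T g => ?_⟩
  rw [H g, Category.assoc]

/-- Reduction of the representability to affine bases. -/
theorem Loc.exists_closed {Y S : Scheme.{u}} (q : Y ⟶ S)
    {Pr : ∀ ⦃W : Scheme.{u}⦄, (W ⟶ Y) → Prop} (hP : Loc q Pr)
    (H : ∀ (R : CommRingCat.{u}) (j : Spec R ⟶ S) [IsOpenImmersion j] (s : ↥(Spec R)),
      ∃ (T' Z' : Scheme.{u}) (e : T' ⟶ Spec R) (i : Z' ⟶ T'), Etale e ∧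
      s ∈ Set.range e ∧ IsClosedImmersion i ∧ ∀ ⦃T : Scheme.{u}⦄ (g : T ⟶ T'),
        (∃ g' : T ⟶ Z', g' ≫ i = g) ↔
          Pr (pullback.fst (pullback.snd q j) (g ≫ e) ≫ pullback.fst q j)) :
    ∃ (Z' : Scheme.{u}) (i : Z' ⟶ S), IsClosedImmersion i ∧ ∀ ⦃T : Scheme.{u}⦄ (g : T ⟶ S),
      (∃ h : T ⟶ Z', h ≫ i = g) ↔ Pr (pullback.fst q g) := by
  refine Groth.Agent.Sga3B.Parab.EtClosed.exists_isClosedImmersion
    (P := fun {T : Scheme.{u}} (g : T ⟶ S) => Pr (pullback.fst q g)) hP.isFppfLocal ?_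
  intro s
  obtain ⟨R, j, hj, s, rfl⟩ : ∃ (R : CommRingCat.{u}) (j : Spec R ⟶ S) (_ : IsOpenImmersion j)
      (t : Spec R), j t = s := by
    obtain ⟨U, hU, hsU, -⟩ := exists_isAffineOpen_mem_and_subset (x := s) (U := ⊤) trivial
    have h1 : s ∈ Set.range hU.fromSpec := by
      rw [hU.range_fromSpec]
      exact hsU
    obtain ⟨t, ht⟩ := h1
    exact ⟨_, hU.fromSpec, inferInstance, t, ht⟩
  obtain ⟨T', Z', e, i, he, ⟨t, ht⟩, hi, HH⟩ := H R j s
  refine ⟨T', Z', e ≫ j, i, inferInstance, inferInstance,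
    ⟨t, by rw [Scheme.Hom.comp_apply, ht]⟩, hi, fun T g => (HH g).trans ?_⟩
  rw [← Category.assoc]
  constructor
  · intro h
    refine hP.of_eq (pullbackLeftPullbackSndIso q j (g ≫ e)).inv h ?_
    rw [pullbackLeftPullbackSndIso_inv_fst]
  · intro h
    refine hP.of_eq (pullbackLeftPullbackSndIso q j (g ≫ e)).hom h ?_
    rw [pullbackLeftPullbackSndIso_hom_fst]

end K887.LocRep
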