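import Groth.Agent.Divis.FlatExt
import Mathlib.RingTheory.Localization.BaseChange
import Mathlib.LinearAlgebra.TensorProduct.RightExactness
import Mathlib.Algebra.Module.Projective
import Mathlib.RingTheory.Flat.Basic
import Mathlib.Data.Finsupp.ToDFinsupp

/-! Algebra for the extension of sections across an effective Cartier divisor. -/

set_option autoImplicit false
universe u

open scoped TensorProduct

namespace K887.SecAff

/-- The module `A[1/t]/A`. -/
abbrev N (A : Type u) [CommRing A] (t : A) : Type u :=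
  Localization.Away t ⧸ LinearMap.range (Algebra.linearMap A (Localization.Away t))

/-- The projection `A[1/t] → A[1/t]/A`. -/
abbrev mkN (A : Type u) [CommRing A] (t : A) : Localization.Away t →ₗ[A] N A t :=
  Submodule.mkQ _

theorem tmul_mkN_eq_zero_iff {A : Type u} [CommRing A] (t : A) (A' : Type u) [CommRing A']
    [Algebra A A'] (x : Localization.Away t) :
    (1 : A') ⊗ₜ[A] (mkN A t x) = (0 : A' ⊗[A] N A t) ↔
      ∃ a' : A', algebraMap A' (A' ⊗[A] Localization.Away t) a' = (1 : A') ⊗ₜ[A] x := by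
  have hex : Function.Exact (Algebra.linearMap A (Localization.Away t)) (mkN A t) := by
    rw [LinearMap.exact_iff, Submodule.ker_mkQ]
  have h1 := lTensor_exact A' hex (Submodule.mkQ_surjective _)
  have h2 : (mkN A t).lTensor A' ((1 : A') ⊗ₜ[A] x) = (1 : A') ⊗ₜ[A] (mkN A t x) :=
    LinearMap.lTensor_tmul _ _ _ _
  rw [← h2]
  constructor
  · intro h
    obtain ⟨z, hz⟩ := (h1 _).1 h
    rw [← hz]
    obtain ⟨a', rfl⟩ : ∃ a' : A', a' ⊗ₜ[A] (1 : A) = z :=
      ⟨TensorProduct.rid A A' z, (TensorProduct.rid A A').symm_apply_apply z⟩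
    refine ⟨a', ?_⟩
    rw [LinearMap.lTensor_tmul, Algebra.linearMap_apply, map_one]
    rfl
  · rintro ⟨a', ha'⟩
    refine (h1 _).2 ⟨a' ⊗ₜ[A] (1 : A), ?_⟩
    rw [LinearMap.lTensor_tmul, Algebra.linearMap_apply, map_one, ← ha']
    rfl

/-- A flat algebra in which the annihilator of `n` generates a proper ideal detects `n`. -/
theorem map_ker_eq_top_of_tmul_eq_zero {A : Type u} [CommRing A] {N : Type u} [AddCommGroup N]
    [Module A N] (n : N) (A' : Type u) [CommRing A'] [Algebra A A'] [Module.Flat A A']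
    (h : (1 : A') ⊗ₜ[A] n = (0 : A' ⊗[A] N)) :
    Ideal.map (algebraMap A A') (LinearMap.ker (LinearMap.toSpanSingleton A N n)) = ⊤ := by
  have h1 := Module.Flat.lTensor_exact A' (f := (LinearMap.ker (LinearMap.toSpanSingleton A N n)).subtype)
    (g := LinearMap.toSpanSingleton A N n) (by
      rw [LinearMap.exact_iff, Submodule.range_subtype])
  have h2 : (LinearMap.toSpanSingleton A N n).lTensor A' ((1 : A') ⊗ₜ[A] (1 : A)) = 0 := by
    rw [LinearMap.lTensor_tmul, LinearMap.toSpanSingleton_apply, one_smul, h]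
  obtain ⟨z, hz⟩ := (h1 _).1 h2
  rw [Ideal.eq_top_iff_one]
  have h3 : TensorProduct.rid A A' (LinearMap.lTensor A'
      (LinearMap.ker (LinearMap.toSpanSingleton A N n)).subtype z) = 1 := by
    rw [hz, TensorProduct.rid_tmul, one_smul]
  rw [← h3]
  clear h3 hz
  induction z using TensorProduct.induction_on with
  | zero => simp
  | add x y hx hy => rw [map_add, map_add]; exact Ideal.add_mem _ hx hy
  | tmul a j =>
    rw [LinearMap.lTensor_tmul, TensorProduct.rid_tmul, Submodule.subtype_apply, Algebra.smul_def]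
    exact Ideal.mul_mem_right _ _ (Ideal.mem_map_of_mem _ j.2)

section Projective

variable {S : Type u} [CommRing S] (t : S)

/-- `a ↦ a / t ^ (n + 1)` -/
noncomputable def φ (n : ℕ) : S →ₗ[S] N S t :=
  mkN S t ∘ₗ LinearMap.toSpanSingleton S _ (IsLocalization.Away.invSelf t ^ (n + 1))

theorem φ_apply (n : ℕ) (a : S) : φ t n a = mkN S t (a • IsLocalization.Away.invSelf t ^ (n + 1)) :=
  rfl

theorem t_smul_inv (n : ℕ) : t • (IsLocalization.Away.invSelf t : Localization.Away t) ^ (n + 1) =
    IsLocalization.Away.invSelf t ^ n := by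
  rw [Algebra.smul_def, pow_succ', ← mul_assoc, IsLocalization.Away.mul_invSelf, one_mul]

theorem mkN_smul_one (a : S) : mkN S t (a • (1 : Localization.Away t)) = 0 := by
  rw [Submodule.mkQ_apply, Submodule.Quotient.mk_eq_zero]
  exact ⟨a, by rw [Algebra.linearMap_apply, Algebra.algebraMap_eq_smul_one]⟩

theorem t_smul_φ_zero (a : S) : t • φ t 0 a = 0 := by
  rw [φ_apply, ← map_smul, smul_comm, t_smul_inv, pow_zero, mkN_smul_one]

theorem t_smul_φ_succ (n : ℕ) (a : S) : t • φ t (n + 1) a = φ t n a := by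
  rw [φ_apply, φ_apply, ← map_smul, smul_comm, t_smul_inv]

theorem pow_smul_φ_lt {n m : ℕ} (h : n < m) (a : S) : t ^ m • φ t n a = 0 := by
  induction n generalizing m with
  | zero =>
    obtain ⟨m, rfl⟩ := Nat.exists_eq_succ_of_ne_zero h.ne'
    rw [Nat.succ_eq_add_one, pow_succ, mul_smul, t_smul_φ_zero, smul_zero]
  | succ n ih =>
    obtain ⟨m, rfl⟩ := Nat.exists_eq_succ_of_ne_zero (Nat.ne_zero_of_lt h)
    rw [Nat.succ_eq_add_one, pow_succ, mul_smul, t_smul_φ_succ]
    exact ih (by omega)

theorem pow_smul_φ_self (n : ℕ) (a : S) : t ^ n • φ t n a = φ t 0 a := by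
  induction n with
  | zero => rw [pow_zero, one_smul]
  | succ n ih => rw [pow_succ, mul_smul, t_smul_φ_succ, ih]

theorem exists_φ (x : N S t) : ∃ (n : ℕ) (a : S), φ t n a = x := by
  obtain ⟨x, rfl⟩ := Submodule.mkQ_surjective _ x
  obtain ⟨⟨a, ⟨_, n, rfl⟩⟩, hx⟩ := IsLocalization.surj (Submonoid.powers t) x
  refine ⟨n, t * a, ?_⟩
  rw [φ_apply, mul_comm, mul_smul, t_smul_inv]
  congr 1
  simp only [map_pow] at hx
  have h1 : (algebraMap S (Localization.Away t) t) ^ n * IsLocalization.Away.invSelf t ^ n = 1 := by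
    rw [← mul_pow, IsLocalization.Away.mul_invSelf, one_pow]
  rw [Algebra.smul_def, ← hx, mul_assoc, h1, mul_one]

variable {t}

theorem mem_of_φ_zero_eq_zero (ht : t ∈ nonZeroDivisors S) {a : S} (h : φ t 0 a = 0) :
    a ∈ Ideal.span {t} := by
  rw [φ_apply, Submodule.mkQ_apply, Submodule.Quotient.mk_eq_zero] at h
  obtain ⟨b, hb⟩ := h
  rw [Ideal.mem_span_singleton]
  refine ⟨b, ?_⟩
  have h1 : t • (algebraMap S (Localization.Away t) b) = algebraMap S _ a := by
    rw [← Algebra.linearMap_apply, hb, smul_comm, t_smul_inv, pow_zero,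
      Algebra.algebraMap_eq_smul_one]
  rw [Algebra.smul_def, ← map_mul] at h1
  exact (IsLocalization.injective (Localization.Away t)
    (Submonoid.powers_le.mpr ht) h1).symm

theorem projective_N (ht : t ∈ nonZeroDivisors S) (R : Type u) [CommRing R] [Algebra R S]
    [Module.Projective R (S ⧸ Ideal.span {t})] : Module.Projective R (N S t) := by
  obtain ⟨σ, hσ⟩ := Module.projective_lifting_property
    (Ideal.Quotient.mkₐ R (Ideal.span {t})).toLinearMap LinearMap.id
    (Ideal.Quotient.mkₐ_surjective R (Ideal.span {t}))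
  have hσ' : ∀ x, Ideal.Quotient.mk (Ideal.span {t}) (σ x) = x := fun x => LinearMap.congr_fun hσ x
  let Φ : (ℕ →₀ (S ⧸ Ideal.span {t})) →ₗ[R] N S t :=
    Finsupp.lsum R fun n => ((φ t n).restrictScalars R) ∘ₗ σ
  have hΦ : ∀ x, Φ x = x.sum fun n c => φ t n (σ c) := fun x => by
    rw [Finsupp.lsum_apply]
    rfl
  have hinj : Function.Injective Φ := by
    rw [injective_iff_map_eq_zero]
    intro x hx
    by_contra hne
    have hs : x.support.Nonempty := Finsupp.support_nonempty_iff.mpr hne
    have h1 : t ^ (x.support.max' hs) • Φ x = φ t 0 (σ (x (x.support.max' hs))) := by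
      rw [hΦ, Finsupp.sum, Finset.smul_sum,
        Finset.sum_eq_single_of_mem (x.support.max' hs) (Finset.max'_mem _ hs), pow_smul_φ_self]
      intro n hn hne
      exact pow_smul_φ_lt t (lt_of_le_of_ne (Finset.le_max' _ _ hn) hne) _
    rw [hx, smul_zero] at h1
    have h2 := mem_of_φ_zero_eq_zero ht h1.symm
    rw [← Ideal.Quotient.eq_zero_iff_mem, hσ'] at h2
    exact (Finsupp.mem_support_iff.mp (Finset.max'_mem _ hs)) h2
  have hsurj : Function.Surjective Φ := by
    intro y
    obtain ⟨n, a, rfl⟩ := exists_φ t y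
    change φ t n a ∈ LinearMap.range Φ
    have key : ∀ (n : ℕ) (b : S), φ t n b - φ t n (σ (Ideal.Quotient.mk _ b)) ∈
        LinearMap.range Φ → φ t n b ∈ LinearMap.range Φ := by
      intro n b hb
      have h1 : φ t n (σ (Ideal.Quotient.mk _ b)) ∈ LinearMap.range Φ :=
        ⟨Finsupp.single n (Ideal.Quotient.mk _ b), by
          rw [hΦ, Finsupp.sum_single_index]
          rw [map_zero, map_zero]⟩
      have h2 := add_mem hb h1
      rwa [sub_add_cancel] at h2
    have hmem : ∀ b : S, ∃ c, b - σ (Ideal.Quotient.mk _ b) = t * c := by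
      intro b
      rw [← dvd_def, ← Ideal.mem_span_singleton, ← Ideal.Quotient.eq_zero_iff_mem, map_sub, hσ',
        sub_self]
    induction n generalizing a with
    | zero =>
      refine key _ _ ?_
      obtain ⟨c, hc⟩ := hmem a
      rw [← map_sub, hc, ← smul_eq_mul, map_smul, t_smul_φ_zero]
      exact zero_mem _
    | succ n ih =>
      refine key _ _ ?_
      obtain ⟨c, hc⟩ := hmem a
      rw [← map_sub, hc, ← smul_eq_mul, map_smul, t_smul_φ_succ]
      exact ih c
  classical
  have h1 : Module.Projective R (ℕ →₀ S ⧸ Ideal.span {t}) :=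
    Module.Projective.of_equiv (finsuppLequivDFinsupp (ι := ℕ) (M := S ⧸ Ideal.span {t}) R).symm
  exact Module.Projective.of_equiv (LinearEquiv.ofBijective Φ ⟨hinj, hsurj⟩)

end Projective

end K887.SecAff
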