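import Groth.Agent.RhoSh.K887.SecCov
import Groth.Agent.Divis.RelCartier

/-! An affine atlas on which an effective Cartier divisor is principal. -/

set_option autoImplicit false
universe u

open CategoryTheory CategoryTheory.Limits AlgebraicGeometry TopologicalSpace
open scoped TensorProduct

namespace K887.SecAtlas

open K887.ZeroCov

theorem flat_quotient_pi {R : Type u} [CommRing R] {ι : Type u} [Finite ι] (A : ι → Type u)
    [∀ i, CommRing (A i)] [∀ i, Algebra R (A i)] (t : ∀ i, A i)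
    (h : ∀ i, Module.Flat R (A i ⧸ Ideal.span {t i})) :
    Module.Flat R ((∀ i, A i) ⧸ Ideal.span {t}) := by
  classical
  have := Fintype.ofFinite ι
  let f : (∀ i, A i) →ₐ[R] ∀ i, A i ⧸ Ideal.span {t i} :=
    AlgHom.pi fun i => (Ideal.Quotient.mkₐ R (Ideal.span {t i})).comp (Pi.evalAlgHom R A i)
  have hf : ∀ a, f a = 0 ↔ a ∈ Ideal.span {t} := by
    intro a
    rw [Ideal.mem_span_singleton]
    constructor
    · intro ha
      have h1 : ∀ i, ∃ c, a i = t i * c := by
        intro i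
        have h2 : Ideal.Quotient.mk (Ideal.span {t i}) (a i) = 0 := congrFun ha i
        rw [Ideal.Quotient.eq_zero_iff_mem, Ideal.mem_span_singleton] at h2
        exact h2
      choose c hc using h1
      exact ⟨c, funext hc⟩
    · rintro ⟨c, rfl⟩
      funext i
      change Ideal.Quotient.mk (Ideal.span {t i}) (t i * c i) = 0
      rw [Ideal.Quotient.eq_zero_iff_mem]
      exact Ideal.mul_mem_right _ _ (Ideal.mem_span_singleton_self _)
  let F : ((∀ i, A i) ⧸ Ideal.span {t}) →ₐ[R] ∀ i, A i ⧸ Ideal.span {t i} :=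
    Ideal.Quotient.liftₐ _ f fun a ha => (hf a).2 ha
  have hF : ∀ a, F (Ideal.Quotient.mk _ a) = f a := fun a => rfl
  have hbij : Function.Bijective F.toLinearMap := by
    constructor
    · rw [injective_iff_map_eq_zero]
      intro x hx
      obtain ⟨a, rfl⟩ := Ideal.Quotient.mk_surjective x
      rw [Ideal.Quotient.eq_zero_iff_mem]
      exact (hf a).1 hx
    · intro y
      choose a ha using fun i => Ideal.Quotient.mk_surjective (y i)
      exact ⟨Ideal.Quotient.mk _ a, funext ha⟩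
  have h1 : Module.Flat R (Π₀ i, A i ⧸ Ideal.span {t i}) := inferInstance
  have h2 : Module.Flat R (∀ i, A i ⧸ Ideal.span {t i}) :=
    Module.Flat.of_linearEquiv (DFinsupp.linearEquivFunOnFintype (R := R)
      (M := fun i => A i ⧸ Ideal.span {t i})).symm
  exact Module.Flat.of_linearEquiv (LinearEquiv.ofBijective F.toLinearMap hbij)

/-- The flatness of the quotients. -/
theorem flat_quot {R : CommRingCat.{u}} {X : Scheme.{u}} (q : X ⟶ Spec R) (𝓘 : X.IdealSheafData)
    (hfl : Flat (𝓘.subschemeι ≫ q)) (U : X.affineOpens) (ψ : R ⟶ Γ(X, U.1))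
    (hψ : Spec.map ψ = U.2.fromSpec ≫ q) :
    ((Ideal.Quotient.mk (𝓘.ideal U)).comp ψ.hom).Flat := by
  have h1 := Groth.Agent.Divis.RelCartier.flat_quotMap q 𝓘 hfl ⟨⊤, isAffineOpen_top _⟩ U le_top
  have h2 : ψ = (Scheme.ΓSpecIso R).inv ≫ q.appLE ⊤ U.1 le_top := by
    apply Spec.map_injective
    rw [hψ, Spec.map_comp]
    have h3 := IsAffineOpen.SpecMap_appLE_fromSpec q (isAffineOpen_top (Spec R)) U.2
      (le_top : U.1 ≤ q ⁻¹ᵁ ⊤)
    rw [← h3]
    congr 1
    rw [IsAffineOpen.fromSpec_top]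
    exact (Scheme.isoSpec_Spec_inv R)
  have h3 : (Ideal.Quotient.mk (𝓘.ideal U)).comp ψ.hom =
      (Groth.Agent.Divis.RelCartier.quotMap q 𝓘 ⊤ U le_top).comp (Scheme.ΓSpecIso R).inv.hom := by
    rw [h2, CommRingCat.hom_comp]
    rfl
  rw [h3]
  exact RingHom.Flat.comp (RingHom.Flat.of_bijective
    (ConcreteCategory.bijective_of_isIso (Scheme.ΓSpecIso R).inv)) h1

/-- The atlas. -/
theorem exists_atlas {R : CommRingCat.{u}} {X : Scheme.{u}} [CompactSpace X] (q : X ⟶ Spec R)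
    (𝓘 : X.IdealSheafData) (hI : BlowUp.IsEffCartierIdeal 𝓘) (hfl : Flat (𝓘.subschemeι ≫ q)) :
    ∃ (A : Type u) (_ : CommRing A) (_ : Algebra R A) (v : Spec (CommRingCat.of A) ⟶ X) (t : A),
      Etale v ∧ Surjective v ∧ v ≫ q = sp R A ∧ t ∈ nonZeroDivisors A ∧
      (∀ x, v x ∉ 𝓘.support ↔ x ∈ PrimeSpectrum.basicOpen t) ∧
      Module.Flat R (A ⧸ Ideal.span {t}) := by
  have hI' := hI
  choose U hxU t ht hU using hI'
  have hUa : ∀ x, IsAffineOpen (U x).1 := fun x => (U x).2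
  obtain ⟨J, hJ⟩ := CompactSpace.elim_nhds_subcover (fun x => ((U x).1 : Set X))
    (fun x => (U x).1.isOpen.mem_nhds (hxU x))
  let Ai : J → CommRingCat.{u} := fun i => Γ(X, (U i).1)
  have hψ : ∀ i : J, ∃ ψ : R ⟶ Ai i, Spec.map ψ = (hUa i).fromSpec ≫ q := fun i =>
    ⟨Spec.preimage _, Spec.map_preimage _⟩
  choose ψ hψ using hψ
  let _ : ∀ i, Algebra R (Ai i) := fun i => (ψ i).hom.toAlgebra
  let A : Type u := ∀ i : J, Ai i
  let d : (∐ fun i : J => Spec (Ai i)) ⟶ X := Sigma.desc fun i : J => (hUa i).fromSpec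
  let v : Spec (CommRingCat.of A) ⟶ X := inv (sigmaSpec Ai) ≫ d
  have hv : ∀ i : J, Spec.map (CommRingCat.ofHom (Pi.evalRingHom (fun i => (Ai i : Type u)) i)) ≫ v =
      (hUa i).fromSpec := by
    intro i
    have h1 := ι_sigmaSpec Ai i
    rw [← h1, Category.assoc, IsIso.hom_inv_id_assoc]
    exact Sigma.ι_desc _ _
  have hpt : ∀ x : ↥(Spec (CommRingCat.of A)), ∃ (i : J) (y : ↥(Spec (Ai i))),
      Spec.map (CommRingCat.ofHom (Pi.evalRingHom (fun i => (Ai i : Type u)) i)) y = x := by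
    intro x
    obtain ⟨z, rfl⟩ := (sigmaSpec Ai).surjective x
    obtain ⟨⟨i, y⟩, rfl⟩ := (sigmaMk fun i => Spec (Ai i)).surjective z
    refine ⟨i, y, ?_⟩
    have h1 := congr($(ι_sigmaSpec Ai i) y)
    rw [Scheme.Hom.comp_apply] at h1
    rw [sigmaMk_mk, h1]
  have hloc : IsZariskiLocalAtSource @Etale :=
    HasRingHomProperty.instIsZariskiLocalAtSource (Q := RingHom.Etale)
  have hd : Etale d := IsZariskiLocalAtSource.sigmaDesc (P := @Etale) fun i => inferInstance
  have hd' : Surjective d := by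
    refine Surjective.sigmaDesc_of_union_range_eq_univ ?_
    rw [Set.eq_univ_iff_forall]
    intro x
    have hx : x ∈ ⋃ i ∈ J, ((U i).1 : Set X) := by
      rw [hJ]
      trivial
    simp only [Set.mem_iUnion] at hx ⊢
    obtain ⟨i, hi, hx⟩ := hx
    refine ⟨⟨i, hi⟩, ?_⟩
    rw [(hUa i).range_fromSpec]
    exact hx
  refine ⟨A, inferInstance, inferInstance, v, fun i => t i, inferInstance, inferInstance, ?_, ?_,
    ?_, ?_⟩
  · rw [← cancel_epi (sigmaSpec Ai)]
    apply Sigma.hom_ext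
    intro i
    rw [reassoc_of% (ι_sigmaSpec Ai i), reassoc_of% (ι_sigmaSpec Ai i), ← Category.assoc, hv i,
      ← hψ, ← Spec.map_comp]
    rfl
  · rw [mem_nonZeroDivisors_iff_right]
    intro a ha
    funext i
    exact (mem_nonZeroDivisors_iff_right.mp (ht i)) (a i) (congrFun ha i)
  · intro x
    obtain ⟨i, y, rfl⟩ := hpt x
    rw [← Scheme.Hom.comp_apply, hv]
    have h1 := Groth.Agent.Divis.CartierCompl.compl_support_inf_eq_basicOpen _ (U i) (t i) (hU i)
    have h2 : (hUa i).fromSpec y ∈ (U i).1 := by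
      have h3 : (hUa i).fromSpec y ∈ Set.range (hUa i).fromSpec := ⟨y, rfl⟩
      rwa [(hUa i).range_fromSpec] at h3
    have h4 : (hUa i).fromSpec y ∉ 𝓘.support ↔ (hUa i).fromSpec y ∈ X.basicOpen (t i) := by
      rw [← h1]
      exact ⟨fun h => ⟨h, h2⟩, fun h => h.1⟩
    rw [h4]
    have h5 : (hUa i).fromSpec y ∈ X.basicOpen (t i) ↔ y ∈ PrimeSpectrum.basicOpen (t i) := by
      rw [← (hUa i).fromSpec_preimage_basicOpen]
      rfl
    exact h5
  · refine flat_quotient_pi (fun i => (Ai i : Type u)) (fun i => t i) fun i => ?_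
    have h1 := flat_quot q 𝓘 hfl (U i) (ψ i) (hψ i)
    rw [hU] at h1
    exact h1

end K887.SecAtlas
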