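import Groth.Agent.RhoSh.K887.SecExt
import Groth.Agent.Divis.CartierCompl
import Groth.Agent.Divis.EffCartier

/-! Flat-local nature of the extension of a section across an effective Cartier divisor. -/

set_option autoImplicit false
universe u

open CategoryTheory CategoryTheory.Limits AlgebraicGeometry TopologicalSpace
open scoped TensorProduct

namespace K887.SecCov

open K887.SecAff K887.ZeroCov K887.SecExt

variable {P Y : Scheme.{u}} (p : Y ⟶ P) {Q : P.Opens} (s : Q.toScheme ⟶ Y)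
  {I : P.IdealSheafData} (hQ : Q = I.support.compl)

include hQ in
theorem mem_iff {W : Scheme.{u}} (w : W ⟶ P) (x : W) : w x ∈ Q ↔ x ∉ (I.comap w).support := by
  subst hQ
  rw [Scheme.IdealSheafData.support_comap]
  rfl

include hQ in
theorem mem_iff_basicOpen {W : Scheme.{u}} (w : W ⟶ P) (U : W.affineOpens) (t : Γ(W, U.1))
    (h : (I.comap w).ideal U = Ideal.span {t}) (x : ↥(Spec Γ(W, U.1))) :
    (U.2.fromSpec ≫ w) x ∈ Q ↔ x ∈ PrimeSpectrum.basicOpen t := by
  rw [Scheme.Hom.comp_apply, mem_iff hQ]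
  have h1 := Groth.Agent.Divis.CartierCompl.compl_support_inf_eq_basicOpen _ U t h
  have h2 : U.2.fromSpec x ∈ U.1 := by
    have h3 : U.2.fromSpec x ∈ Set.range U.2.fromSpec := ⟨x, rfl⟩
    rwa [U.2.range_fromSpec] at h3
  have h4 : U.2.fromSpec x ∉ (I.comap w).support ↔ U.2.fromSpec x ∈ W.basicOpen t := by
    rw [← h1]
    exact ⟨fun h => ⟨h, h2⟩, fun h => h.1⟩
  rw [h4, ← U.2.fromSpec_preimage_basicOpen]
  rfl

include hQ in
/-- Uniqueness of extensions. -/
theorem unique [IsSeparated p] {W : Scheme.{u}} (w : W ⟶ P)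
    (hI : BlowUp.IsEffCartierIdeal (I.comap w)) {f g : W ⟶ Y} (hf : f ≫ p = w) (hg : g ≫ p = w)
    (Hf : ∀ ⦃V : Scheme.{u}⦄ (v : V ⟶ W) (v' : V ⟶ Q.toScheme), v ≫ w = v' ≫ Q.ι →
      v ≫ f = v' ≫ s)
    (Hg : ∀ ⦃V : Scheme.{u}⦄ (v : V ⟶ W) (v' : V ⟶ Q.toScheme), v ≫ w = v' ≫ Q.ι →
      v ≫ g = v' ≫ s) : f = g := by
  have h1 := Groth.Agent.Divis.CartierCompl.isSchemeTheoreticallyDominant_compl hI
  have h2 : Set.range (Scheme.Opens.ι (X := W) (I.comap w).support.compl ≫ w) ⊆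
      Set.range Q.ι := by
    rintro _ ⟨x, rfl⟩
    rw [Scheme.Opens.range_ι, Scheme.Hom.comp_apply]
    exact (mem_iff hQ w x.1).2 x.2
  have h3 := IsOpenImmersion.lift_fac Q.ι _ h2
  refine Groth.Agent.Ega4dB.SchDense.ext_of_isSchemeTheoreticallyDominant p (hf.trans hg.symm)
    (Scheme.Opens.ι (X := W) (I.comap w).support.compl) ?_
  rw [Hf _ _ h3.symm, Hg _ _ h3.symm]

/-- Flat-local nature over an affine scheme. -/
theorem E_affine [IsAffineHom p] (hs : s ≫ p = Q.ι) {A : Type u} [CommRing A] (t : A)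
    (ht : t ∈ nonZeroDivisors A) (w : Spec (CommRingCat.of A) ⟶ P)
    (hw : ∀ x, w x ∈ Q ↔ x ∈ PrimeSpectrum.basicOpen t)
    (h : ∀ x : ↥(Spec (CommRingCat.of A)), ∃ (W' : Scheme.{u})
      (h : W' ⟶ Spec (CommRingCat.of A)) (x' : W'), Flat h ∧ h x' = x ∧ E p s (h ≫ w)) :
    E p s w := by
  obtain ⟨B, u, H⟩ := exists_map p s hs t w hw
  have h1 : E p s (sp A A ≫ w) := by
    rw [H A ht]
    intro b
    suffices hb : u b = 0 by rw [hb, TensorProduct.tmul_zero]
    by_contra hne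
    have hJ : LinearMap.ker (LinearMap.toSpanSingleton A (N A t) (u b)) ≠ (⊤ : Ideal A) := by
      intro hJ
      apply hne
      have h2 : (1 : A) ∈ LinearMap.ker (LinearMap.toSpanSingleton A (N A t) (u b)) :=
        hJ.ge trivial
      rwa [LinearMap.mem_ker, LinearMap.toSpanSingleton_apply, one_smul] at h2
    obtain ⟨m, hm, hJm⟩ := Ideal.exists_le_maximal _ hJ
    obtain ⟨W', k, x', hk, hx', hE⟩ := h ⟨m, hm.isPrime⟩
    obtain ⟨V, hV, hxV, -⟩ := exists_isAffineOpen_mem_and_subset (x := x') (U := ⊤) trivial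
    obtain ⟨z, hz⟩ : x' ∈ Set.range hV.fromSpec := by
      rw [hV.range_fromSpec]
      exact hxV
    obtain ⟨φ, hφ⟩ : ∃ φ : CommRingCat.of A ⟶ Γ(W', V), Spec.map φ = hV.fromSpec ≫ k :=
      ⟨Spec.preimage _, Spec.map_preimage _⟩
    have hfl : Flat (Spec.map φ) := by
      rw [hφ]
      infer_instance
    rw [HasRingHomProperty.Spec_iff (P := @Flat)] at hfl
    let _ : Algebra A Γ(W', V) := φ.hom.toAlgebra
    have hfl' : Module.Flat A Γ(W', V) := hfl
    have h2 : E p s (sp A Γ(W', V) ≫ w) := by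
      refine hE.of_eq hV.fromSpec ?_
      rw [← Category.assoc, ← hφ]
      rfl
    rw [H _ (Groth.Agent.Divis.EffCartier.map_mem_nonZeroDivisors_of_flat φ.hom hfl ht)] at h2
    have h3 := map_ker_eq_top_of_tmul_eq_zero (u b) Γ(W', V) (h2 b)
    have h4 : Spec.map φ z = ⟨m, hm.isPrime⟩ := by
      rw [hφ, Scheme.Hom.comp_apply, hz, hx']
    have h5 : Ideal.comap φ.hom z.asIdeal = m := congrArg PrimeSpectrum.asIdeal h4
    have h6 : Ideal.map (algebraMap A Γ(W', V))
        (LinearMap.ker (LinearMap.toSpanSingleton A (N A t) (u b))) ≤ z.asIdeal := by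
      rw [Ideal.map_le_iff_le_comap]
      exact hJm.trans h5.ge
    rw [h3] at h6
    exact z.2.ne_top (top_le_iff.mp h6)
  refine h1.of_eq (𝟙 _) ?_
  have h2 : sp A A = 𝟙 _ := by
    change Spec.map (CommRingCat.ofHom (RingHom.id A)) = 𝟙 _
    rw [CommRingCat.ofHom_id, Spec.map_id]
  rw [h2, Category.id_comp, Category.id_comp]

include hQ in
/-- The extension of the section is a flat-local question. -/
theorem E_of_cover [IsAffineHom p] (hs : s ≫ p = Q.ι) {W : Scheme.{u}} (w : W ⟶ P)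
    (hI : BlowUp.IsEffCartierIdeal (I.comap w))
    (h : ∀ x : W, ∃ (W' : Scheme.{u}) (h : W' ⟶ W) (x' : W'), Flat h ∧ h x' = x ∧
      E p s (h ≫ w)) : E p s w := by
  have hI' := hI
  choose U hxU t ht hU using hI'
  have key : ∀ x, E p s ((U x).1.ι ≫ w) := by
    intro x
    have h1 : E p s ((U x).2.fromSpec ≫ w) := by
      refine E_affine p s hs (t x) (ht x) _ (mem_iff_basicOpen hQ w (U x) (t x) (hU x)) ?_
      intro y
      obtain ⟨W', k, x', hk, hx', hE⟩ := h ((U x).2.fromSpec y)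
      obtain ⟨z, hz, -⟩ := Scheme.Pullback.exists_preimage_pullback
        (f := (U x).2.fromSpec) (g := k) y x' hx'.symm
      refine ⟨pullback (U x).2.fromSpec k, pullback.fst _ _, z, inferInstance, hz, ?_⟩
      refine hE.of_eq (pullback.snd _ _) ?_
      rw [← Category.assoc, ← Category.assoc, pullback.condition]
    have hUx : IsAffineOpen (U x).1 := (U x).2
    have h3 : hUx.isoSpec.hom ≫ hUx.fromSpec = (U x).1.ι := by
      rw [IsAffineOpen.isoSpec_hom, IsAffineOpen.toSpecΓ_fromSpec]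
    refine h1.of_eq hUx.isoSpec.hom ?_
    rw [← h3, Category.assoc]
  choose f hf Hf using key
  have hcov : ⨆ x, (U x).1 = ⊤ := by
    rw [eq_top_iff]
    intro x _
    exact Opens.mem_iSup.mpr ⟨x, hxU x⟩
  obtain ⟨g, hg⟩ := K887.Extend.glue (fun x => (U x).1) hcov f (by
    intro x y
    have hle1 : (U x).1 ⊓ (U y).1 ≤ (U x).1 := inf_le_left
    have hle2 : (U x).1 ⊓ (U y).1 ≤ (U y).1 := inf_le_right
    refine unique p s hQ (((U x).1 ⊓ (U y).1).ι ≫ w) ?_ ?_ ?_ ?_ ?_
    · rw [Scheme.IdealSheafData.comap_comp]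
      exact Groth.Agent.Divis.EffCartier.isEff_comap_flat hI _
    · rw [Category.assoc, hf, Scheme.homOfLE_ι_assoc]
    · rw [Category.assoc, hf, Scheme.homOfLE_ι_assoc]
    · intro V v v' e
      rw [← Category.assoc]
      exact Hf x _ _ (by rw [Category.assoc, Scheme.homOfLE_ι_assoc, e])
    · intro V v v' e
      rw [← Category.assoc]
      exact Hf y _ _ (by rw [Category.assoc, Scheme.homOfLE_ι_assoc, e]))
  have hcov' : IsOpenCover fun x => (U x).1 := hcov
  refine ⟨g, ?_, ?_⟩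
  · have key : ∀ x : W, (U x).1.ι ≫ g ≫ p = (U x).1.ι ≫ w := by
      intro x
      rw [reassoc_of% hg, hf]
    exact (W.openCoverOfIsOpenCover _ hcov').hom_ext _ _ fun x => key x
  · intro V v v' e
    have hcov'' : IsOpenCover fun x => v ⁻¹ᵁ (U x).1 := by
      rw [IsOpenCover, eq_top_iff]
      rintro x -
      exact Opens.mem_iSup.mpr ⟨v x, hxU (v x)⟩
    have key : ∀ x : W, (v ⁻¹ᵁ (U x).1).ι ≫ v ≫ g = (v ⁻¹ᵁ (U x).1).ι ≫ v' ≫ s := by
      intro x
      rw [← morphismRestrict_ι_assoc, hg, ← Category.assoc]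
      exact Hf x _ _ (by rw [morphismRestrict_ι_assoc, e, Category.assoc])
    exact (V.openCoverOfIsOpenCover _ hcov'').hom_ext _ _ fun x => key x

end K887.SecCov
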