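import Groth.Agent.RhoSh.K887.SecAff
import Groth.Agent.RhoSh.K887.ZeroCov
import Groth.Agent.RhoSh.K887.Extend

/-! Extension of a section of an affine morphism across an effective Cartier divisor. -/

set_option autoImplicit false
universe u

open CategoryTheory CategoryTheory.Limits AlgebraicGeometry TopologicalSpace
open scoped TensorProduct

namespace K887.SecExt

open K887.SecAff K887.ZeroCov

variable {P Y : Scheme.{u}} (p : Y ⟶ P) {Q : P.Opens} (s : Q.toScheme ⟶ Y)

/-- The section `s` extends over `W`. -/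
def E ⦃W : Scheme.{u}⦄ (w : W ⟶ P) : Prop :=
  ∃ f : W ⟶ Y, f ≫ p = w ∧
    ∀ ⦃V : Scheme.{u}⦄ (v : V ⟶ W) (v' : V ⟶ Q.toScheme), v ≫ w = v' ≫ Q.ι → v ≫ f = v' ≫ s

variable {p s}

theorem E.comp {W W' : Scheme.{u}} (h : W' ⟶ W) {w : W ⟶ P} (hw : E p s w) : E p s (h ≫ w) := by
  obtain ⟨f, hf, H⟩ := hw
  refine ⟨h ≫ f, by rw [Category.assoc, hf], fun V v v' e => ?_⟩
  rw [← Category.assoc]
  exact H (v ≫ h) v' (by rw [Category.assoc, e])

theorem E.of_eq {W W' : Scheme.{u}} {w' : W' ⟶ P} (h : W' ⟶ W) {w : W ⟶ P} (hw : E p s w)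
    (e : h ≫ w = w') : E p s w' := e ▸ hw.comp h

variable (p s)

/-- A morphism to the spectrum of a ring whose range lies in `D(t)` factors through the
localization. -/
theorem exists_lift_away {A : Type u} [CommRing A] (t : A) (At : Type u) [CommRing At] [Algebra A At]
    [IsLocalization.Away t At] {V : Scheme.{u}} (v : V ⟶ Spec (CommRingCat.of A))
    (hv : ∀ x : V, v x ∈ PrimeSpectrum.basicOpen t) :
    ∃ v' : V ⟶ Spec (CommRingCat.of At), v' ≫ sp A At = v := by
  have h1 : IsOpenImmersion (sp A At) := IsOpenImmersion.of_isLocalization t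
  refine ⟨IsOpenImmersion.lift (sp A At) v ?_, IsOpenImmersion.lift_fac _ _ _⟩
  rintro _ ⟨x, rfl⟩
  have h2 : Set.range (sp A At) = (PrimeSpectrum.basicOpen t : Set (PrimeSpectrum A)) :=
    PrimeSpectrum.localization_away_comap_range At t
  rw [h2]
  exact hv x

theorem mem_basicOpen_sp {A : Type u} [CommRing A] (t : A) (At : Type u) [CommRing At] [Algebra A At]
    [IsLocalization.Away t At] (x : Spec (CommRingCat.of At)) :
    sp A At x ∈ PrimeSpectrum.basicOpen t := by
  have h2 : Set.range (sp A At) = (PrimeSpectrum.basicOpen t : Set (PrimeSpectrum A)) :=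
    PrimeSpectrum.localization_away_comap_range At t
  exact h2.le ⟨x, rfl⟩

/-- The ring homomorphism of a subring of a localization. -/
theorem exists_ringHom {B A L : Type u} [CommRing B] [CommRing A] [CommRing L] (θ : B →+* L)
    (i : A →+* L) (hi : Function.Injective i) (h : ∀ b, ∃ a, i a = θ b) :
    ∃ β : B →+* A, ∀ b, i (β b) = θ b := by
  choose β hβ using h
  exact ⟨{ toFun := β
           map_one' := hi (by rw [hβ, map_one, map_one])
           map_mul' := fun x y => hi (by rw [hβ, map_mul, map_mul, hβ, hβ])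
           map_zero' := hi (by rw [hβ, map_zero, map_zero])
           map_add' := fun x y => hi (by rw [hβ, map_add, map_add, hβ, hβ]) }, hβ⟩

/-- Key lemma: the extension over affine schemes is the vanishing of a map of modules. -/
theorem exists_map [IsAffineHom p] (hs : s ≫ p = Q.ι) {A : Type u} [CommRing A] (t : A)
    (w : Spec (CommRingCat.of A) ⟶ P)
    (hw : ∀ x, w x ∈ Q ↔ x ∈ PrimeSpectrum.basicOpen t) :
    ∃ (B : CommRingCat.{u}) (u : B → N A t), ∀ (A' : Type u) [CommRing A'] [Algebra A A'],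
      algebraMap A A' t ∈ nonZeroDivisors A' →
      (E p s (sp A A' ≫ w) ↔ ∀ b : B, (1 : A') ⊗ₜ[A] (u b) = (0 : A' ⊗[A] N A t)) := by
  have haff : IsAffine (pullback p w) := isAffine_of_isAffineHom (pullback.snd p w)
  let B : CommRingCat.{u} := Γ(pullback p w, ⊤)
  let r : Spec B ⟶ pullback p w := (pullback p w).isoSpec.inv
  obtain ⟨π, hπ⟩ : ∃ π : CommRingCat.of A ⟶ B, Spec.map π = r ≫ pullback.snd p w :=
    ⟨Spec.preimage _, Spec.map_preimage _⟩
  let y : Spec B ⟶ Y := r ≫ pullback.fst p w
  have hy : y ≫ p = Spec.map π ≫ w := by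
    rw [hπ, Category.assoc, Category.assoc, pullback.condition]
  have hlift : ∀ {V : Scheme.{u}} (f : V ⟶ Y) (g : V ⟶ Spec (CommRingCat.of A)),
      f ≫ p = g ≫ w → ∃ l : V ⟶ Spec B, l ≫ y = f ∧ l ≫ Spec.map π = g := by
    intro V f g e
    refine ⟨pullback.lift f g e ≫ (pullback p w).isoSpec.hom, ?_, ?_⟩
    · rw [Category.assoc, Iso.hom_inv_id_assoc, pullback.lift_fst]
    · rw [hπ, Category.assoc, Iso.hom_inv_id_assoc, pullback.lift_snd]
  have hext : ∀ {V : Scheme.{u}} (l l' : V ⟶ Spec B), l ≫ y = l' ≫ y →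
      l ≫ Spec.map π = l' ≫ Spec.map π → l = l' := by
    intro V l l' h1 h2
    rw [← cancel_mono r]
    apply pullback.hom_ext
    · rw [Category.assoc, Category.assoc]
      exact h1
    · rw [hπ] at h2
      rw [Category.assoc, Category.assoc]
      exact h2
  -- the section over `D(t)`
  obtain ⟨σ, hσ⟩ : ∃ σ : Spec (CommRingCat.of (Localization.Away t)) ⟶ Q.toScheme,
      σ ≫ Q.ι = sp A (Localization.Away t) ≫ w := by
    refine ⟨IsOpenImmersion.lift Q.ι (sp A (Localization.Away t) ≫ w) ?_,
      IsOpenImmersion.lift_fac _ _ _⟩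
    rintro _ ⟨x, rfl⟩
    rw [Scheme.Opens.range_ι, Scheme.Hom.comp_apply]
    exact (hw _).2 (mem_basicOpen_sp t (Localization.Away t) x)
  obtain ⟨l, hl1, hl2⟩ := hlift (σ ≫ s) (sp A (Localization.Away t)) (by
    rw [Category.assoc, hs, hσ])
  obtain ⟨θ, rfl⟩ : ∃ θ : B ⟶ CommRingCat.of (Localization.Away t), Spec.map θ = l :=
    ⟨Spec.preimage _, Spec.map_preimage _⟩
  refine ⟨B, fun b => mkN A t (θ.hom b), fun A' _ _ ht => ?_⟩
  simp only [tmul_mkN_eq_zero_iff]
  let L : Type u := A' ⊗[A] Localization.Away t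
  have hL : IsLocalization.Away (algebraMap A A' t) L := IsLocalization.Away.tensor t _
  let lam : Localization.Away t →+* L :=
    (Algebra.TensorProduct.includeRight : Localization.Away t →ₐ[A] L).toRingHom
  have hlam : Spec.map (CommRingCat.ofHom lam) ≫ sp A (Localization.Away t) =
      sp A' L ≫ sp A A' := by
    rw [← Spec.map_comp, ← Spec.map_comp]
    congr 1
    ext a
    change (1 : A') ⊗ₜ[A] (algebraMap A (Localization.Away t) a) =
      (algebraMap A A' a) ⊗ₜ[A] (1 : Localization.Away t)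
    rw [Algebra.algebraMap_eq_smul_one, Algebra.algebraMap_eq_smul_one, TensorProduct.smul_tmul]
  constructor
  · rintro ⟨f, hf, H⟩ b
    obtain ⟨l', hl1', hl2'⟩ := hlift f (sp A A') hf
    obtain ⟨β, rfl⟩ : ∃ β : B ⟶ CommRingCat.of A', Spec.map β = l' :=
      ⟨Spec.preimage _, Spec.map_preimage _⟩
    have h1 := H (sp A' L) (Spec.map (CommRingCat.ofHom lam) ≫ σ) (by
      rw [Category.assoc, hσ, reassoc_of% hlam])
    have h2 : sp A' L ≫ Spec.map β = Spec.map (CommRingCat.ofHom lam) ≫ Spec.map θ := by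
      apply hext
      · rw [Category.assoc, hl1', h1, Category.assoc, Category.assoc, hl1]
      · rw [Category.assoc, hl2', Category.assoc, hl2, hlam]
    rw [← Spec.map_comp, ← Spec.map_comp] at h2
    exact ⟨β.hom b, congr($(Spec.map_injective h2) b)⟩
  · intro H
    have hinj : Function.Injective (algebraMap A' L) :=
      IsLocalization.injective (M := Submonoid.powers (algebraMap A A' t)) L
        (Submonoid.powers_le.mpr ht)
    obtain ⟨β, hβ⟩ := exists_ringHom (lam.comp θ.hom) (algebraMap A' L) hinj H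
    have h2 : sp A' L ≫ Spec.map (CommRingCat.ofHom β) =
        Spec.map (CommRingCat.ofHom lam) ≫ Spec.map θ := by
      rw [← Spec.map_comp, ← Spec.map_comp]
      congr 1
      ext b
      exact hβ b
    have h3 : Spec.map (CommRingCat.ofHom β) ≫ Spec.map π = sp A A' := by
      rw [← Spec.map_comp]
      congr 1
      ext a
      apply hinj
      have h4 := congrArg (fun z => z ≫ Spec.map π) h2
      simp only [Category.assoc] at h4
      rw [hl2, hlam] at h4
      simp only [← Spec.map_comp] at h4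
      exact congr($(Spec.map_injective h4) a)
    refine ⟨Spec.map (CommRingCat.ofHom β) ≫ y, ?_, ?_⟩
    · rw [Category.assoc, hy, reassoc_of% h3]
    · intro V v v' e
      obtain ⟨v'', rfl⟩ := exists_lift_away (algebraMap A A' t) L v (by
        intro x
        have h4 : (sp A A' ≫ w) (v x) ∈ Q := by
          rw [← Scheme.Hom.comp_apply, e, Scheme.Hom.comp_apply]
          exact (v' x).2
        rw [Scheme.Hom.comp_apply, hw] at h4
        exact h4)
      have h5 : v' = v'' ≫ Spec.map (CommRingCat.ofHom lam) ≫ σ := by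
        rw [← cancel_mono Q.ι, ← e, Category.assoc, Category.assoc, Category.assoc, hσ,
          reassoc_of% hlam]
      rw [h5, Category.assoc, reassoc_of% h2, hl1]
      simp only [Category.assoc]

end K887.SecExt
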