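import Groth.Agent.RhoSh.K887.SecAtlas
import Groth.Agent.RhoSh.K887.LocRep
import Groth.Agent.RhoSh.K887.ZeroMain
import Groth.Agent.S1662

/-! Sections extending across a relative effective Cartier divisor. -/

set_option autoImplicit false
universe u

open CategoryTheory CategoryTheory.Limits AlgebraicGeometry TopologicalSpace
open scoped TensorProduct

namespace K887.SecMain

open K887.SecAff K887.ZeroCov K887.SecExt K887.SecCov K887.SecAtlas K887.LocRep K887.ZeroAff

theorem projective_quot {A S' R' : Type u} [CommRing A] [CommRing S'] [CommRing R'] [Algebra A S']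
    [Algebra R' S'] (t : A) [Module.Projective R' (S' ⊗[A] (A ⧸ Ideal.span {t}))] :
    Module.Projective R' (S' ⧸ Ideal.span {algebraMap A S' t}) := by
  have h1 : (Ideal.span {t}).map (algebraMap A S') = Ideal.span {algebraMap A S' t} := by
    rw [Ideal.map_span, Set.image_singleton]
  rw [← h1]
  exact Module.Projective.of_equiv ((Algebra.TensorProduct.quotIdealMapEquivTensorQuot S'
    (Ideal.span {t})).symm.toLinearEquiv.restrictScalars R')

theorem algebraMap_mem_nonZeroDivisors {R' S' : Type u} [CommRing R'] [CommRing S']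
    [Algebra R' S'] {t : S'} (ht : t ∈ nonZeroDivisors S')
    (h : Module.Flat R' (S' ⧸ Ideal.span {t})) (B : Type u) [CommRing B] [Algebra R' B] :
    algebraMap S' (S' ⊗[R'] B) t ∈ nonZeroDivisors (S' ⊗[R'] B) := by
  have h1 := Groth.Agent.Divis.FlatExt.one_tmul_mem_nonZeroDivisors ht h B
  exact Groth.Agent.Divis.EffCartier.map_mem_nonZeroDivisors_of_flat
    (Algebra.TensorProduct.comm R' B S').toRingEquiv.toRingHom
    (RingHom.Flat.of_bijective (Algebra.TensorProduct.comm R' B S').bijective) h1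

variable {P Y : Scheme.{u}} (p : Y ⟶ P) {Q : P.Opens} (s : Q.toScheme ⟶ Y)
  {I : P.IdealSheafData} (hQ : Q = I.support.compl)

theorem exists_ideal_sec [IsAffineHom p] (hs : s ≫ p = Q.ι) {R' S' : Type u} [CommRing R']
    [CommRing S'] [Algebra R' S'] (t : S') (ht : t ∈ nonZeroDivisors S')
    [Module.Projective R' (S' ⧸ Ideal.span {t})] (w : Spec (CommRingCat.of S') ⟶ P)
    (hw : ∀ x, w x ∈ Q ↔ x ∈ PrimeSpectrum.basicOpen t) :
    ∃ J : Ideal R', ∀ (B : CommRingCat.{u}) (φ : CommRingCat.of R' ⟶ B),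
      E p s (pullback.fst (sp R' S') (Spec.map φ) ≫ w) ↔ J.map φ.hom = ⊥ := by
  obtain ⟨B₀, u, H⟩ := exists_map p s hs t w hw
  have hN : Module.Projective R' (N S' t) := projective_N ht R'
  obtain ⟨J, hJ⟩ := exists_ideal (R := R') (S := S') (M := B₀) (N := N S' t) u
  refine ⟨J, fun B φ => ?_⟩
  let _ : Algebra R' B := φ.hom.toAlgebra
  have h2 : J.map (algebraMap R' B) = J.map φ.hom := rfl
  rw [← h2, ← hJ B, ← H (S' ⊗[R'] B) (algebraMap_mem_nonZeroDivisors ht inferInstance B)]
  change _ ↔ E p s (Spec.map (CommRingCat.ofHom (algebraMap S' (S' ⊗[R'] B))) ≫ w)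
  constructor
  · intro h
    refine E.of_eq (pullbackSpecIso R' S' B).inv h ?_
    rw [← pullbackSpecIso_inv_fst', Category.assoc]
    rfl
  · intro h
    refine E.of_eq (pullbackSpecIso R' S' B).hom h ?_
    rw [pullbackSpecIso_hom_fst'_assoc]
    rfl

theorem local_rep [IsAffineHom p] (hs : s ≫ p = Q.ι) {R A : Type u} [CommRing R] [CommRing A]
    [Algebra R A] {P₁ : Scheme.{u}} (q : P₁ ⟶ Spec (CommRingCat.of R)) [IsProper q]
    [LocallyOfFinitePresentation q] (c : P₁ ⟶ P)
    (hP : Loc q (fun {W : Scheme.{u}} (w : W ⟶ P₁) => E p s (w ≫ c)))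
    (v : Spec (CommRingCat.of A) ⟶ P₁) [Etale v] [Surjective v] (hv : v ≫ q = sp R A)
    (t : A) (ht : t ∈ nonZeroDivisors A)
    (hvQ : ∀ x, c (v x) ∈ Q ↔ x ∈ PrimeSpectrum.basicOpen t)
    (hfl : Module.Flat R (A ⧸ Ideal.span {t})) (s₀ : ↥(Spec (CommRingCat.of R))) :
    ∃ (T' Z' : Scheme.{u}) (e : T' ⟶ Spec (CommRingCat.of R)) (i : Z' ⟶ T'), Etale e ∧
      s₀ ∈ Set.range e ∧ IsClosedImmersion i ∧ ∀ ⦃T : Scheme.{u}⦄ (g : T ⟶ T'),
        (∃ g' : T ⟶ Z', g' ≫ i = g) ↔ E p s (pullback.fst q (g ≫ e) ≫ c) := by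
  have hAfp : Algebra.FinitePresentation R A := K887.ZeroMain.finitePresentation_of_eq q v hv
  have hNfp : Module.FinitePresentation A (A ⧸ Ideal.span {t}) :=
    Module.finitePresentation_of_surjective (Ideal.span {t}).mkQ (Submodule.mkQ_surjective _)
      (by rw [Submodule.ker_mkQ]; exact Submodule.fg_span_singleton t)
  have hs₀ : s₀.asIdeal.IsPrime := s₀.2
  obtain ⟨R', S', iR, iS, i1, i2, i3, i4, i5, i6, p', hp', hnhd, hS', hcov, hproj⟩ :=
    Groth.Agent.Flat2B.CoverProj.exists_cover (R := R) (S := A)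
      (A ⧸ Ideal.span {t}) s₀.asIdeal
      (fun Q _ _ => Groth.Agent.Flat2B.FlatCrit.flatAt_of_flat _ _)
  have hproj' : Module.Projective R' (S' ⧸ Ideal.span {algebraMap A S' t}) := projective_quot t
  have ht' : algebraMap A S' t ∈ nonZeroDivisors S' :=
    Groth.Agent.Divis.EffCartier.map_mem_nonZeroDivisors_of_flat (algebraMap A S')
      (RingHom.flat_algebraMap_iff.mpr inferInstance) ht
  obtain ⟨J, hJ⟩ := exists_ideal_sec p s hs (R' := R') (algebraMap A S' t) ht'
    (sp A S' ≫ v ≫ c) (by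
      intro x
      rw [Scheme.Hom.comp_apply, Scheme.Hom.comp_apply, hvQ]
      rfl)
  exact Loc.core q v hv hP s₀.asIdeal p' hnhd hcov J (by simpa only [Category.assoc] using hJ) s₀ rfl

/-- The pullback of a flat divisor is flat. -/
theorem flat_comap {S S' : Scheme.{u}} (q : P ⟶ S) (I : P.IdealSheafData)
    [Flat (I.subschemeι ≫ q)] (j : S' ⟶ S) :
    Flat ((I.comap (pullback.fst q j)).subschemeι ≫ pullback.snd q j) := by
  have h1 : IsPullback (pullback.snd (pullback.fst q j) I.subschemeι)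
      (pullback.fst (pullback.fst q j) I.subschemeι) I.subschemeι (pullback.fst q j) :=
    (IsPullback.of_hasPullback (pullback.fst q j) I.subschemeι).flip
  have h2 := h1.paste_vert (IsPullback.of_hasPullback q j)
  have h3 : Flat (pullback.fst (pullback.fst q j) I.subschemeι ≫ pullback.snd q j) :=
    MorphismProperty.of_isPullback h2 inferInstance
  rw [← Scheme.IdealSheafData.comapIso_hom_fst, Category.assoc]
  infer_instance

include hQ in
theorem loc [IsAffineHom p] (hs : s ≫ p = Q.ι) {S : Scheme.{u}} (q : P ⟶ S)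
    (hI : BlowUp.IsEffCartierIdeal I) [Flat (I.subschemeι ≫ q)] : Loc q (E p s) where
  comp h w hw := hw.comp h
  cover g H := E_of_cover p s hQ hs _ (Groth.Agent.S1662.result q I hI g) H

include hQ in
/-- The functor of sections extending across the divisor is a closed subscheme. -/
theorem main [IsAffineHom p] (hs : s ≫ p = Q.ι) {S : Scheme.{u}} (q : P ⟶ S) [IsProper q]
    [LocallyOfFinitePresentation q] (hI : BlowUp.IsEffCartierIdeal I)
    [Flat (I.subschemeι ≫ q)] :
    ∃ (Z' : Scheme.{u}) (i : Z' ⟶ S), IsClosedImmersion i ∧ ∀ ⦃T : Scheme.{u}⦄ (g : T ⟶ S),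
      (∃ h : T ⟶ Z', h ≫ i = g) ↔ E p s (pullback.fst q g) := by
  have hP := loc p s hQ hs q hI
  refine hP.exists_closed q fun R j _ s₀ => ?_
  have hfl : Flat ((I.comap (pullback.fst q j)).subschemeι ≫ pullback.snd q j) := flat_comap q I j
  have hE : BlowUp.IsEffCartierIdeal (I.comap (pullback.fst q j)) :=
    Groth.Agent.S1662.result q I hI j
  have : CompactSpace ↥(pullback q j) :=
    QuasiCompact.compactSpace_of_compactSpace (pullback.snd q j)
  obtain ⟨A, iA, iA', v, t, h1, h2, hv, ht, hvQ, hf⟩ := exists_atlas (pullback.snd q j) _ hE hfl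
  exact local_rep p s hs (pullback.snd q j) (pullback.fst q j) (hP.baseChange j) v hv t ht
    (fun x => by rw [mem_iff hQ, hvQ]) hf s₀

end K887.SecMain
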