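import Groth.Agent.Ega4dB.FiberDepth
import Groth.Agent.Ega4dA.FibPair1
import Groth.Agent.CalgA.SerreLocal
import Groth.Agent.Models2.FPCoh
import Groth.Prelude.Def_TorSh
import Groth.Agent.S1393

/-! Local freeness, in relative codimension at most one, of modules flat over the base with
torsion-free fibres. -/

set_option autoImplicit false
universe u v w

open CategoryTheory CategoryTheory.Limits AlgebraicGeometry TopologicalSpace IsLocalRing

namespace K887.TFLoc

open Groth.Agent.Ega4dB.FiberDepth

theorem flat_of_semilinear {R R' : Type*} [CommRing R] [CommRing R'] {N N' : Type*}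
    [AddCommGroup N] [Module R N] [AddCommGroup N'] [Module R' N'] (φ : R ≃+* R') (e : N ≃+ N')
    (he : ∀ r n, e (r • n) = φ r • e n) [Module.Flat R' N'] : Module.Flat R N := by
  let _ : Algebra R R' := φ.toRingHom.toAlgebra
  let _ : Module R N' := Module.compHom N' φ.toRingHom
  have : IsScalarTower R R' N' := ⟨fun r s n => by
    change (φ r * s) • n = φ r • (s • n)
    rw [mul_smul]⟩
  have h1 : Module.Flat R R' := by
    let l : R ≃ₗ[R] R' :=
      { φ with map_smul' := fun r s => map_mul φ r s }
    exact Module.Flat.of_linearEquiv l.symm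
  have h2 : Module.Flat R N' := Module.Flat.trans R R' N'
  let l : N ≃ₗ[R] N' := { e with map_smul' := fun r n => he r n }
  exact Module.Flat.of_linearEquiv l

variable {X S : Scheme.{u}}

theorem flat_quot_of_flat_fiber (f : X ⟶ S) (F : X.Modules) (s : S) (z : f.fiber s)
    (h : Module.Flat ((f.fiber s).presheaf.stalk z)
      (((Scheme.Modules.pullback (f.fiberι s)).obj F).presheaf.stalk z)) :
    Module.Flat (X.presheaf.stalk (f.fiberι s z) ⧸ mIdeal f (f.fiberι s z))
      (F.presheaf.stalk (f.fiberι s z) ⧸ (mIdeal f (f.fiberι s z) •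
        (⊤ : Submodule (X.presheaf.stalk (f.fiberι s z)) (F.presheaf.stalk (f.fiberι s z))))) := by
  let := Groth.Agent.Fdesc.PullbackStalk.stalkAlg (f.fiberι s) z
  let := FlatMod.moduleStalkOver (f.fiberι s) ((Scheme.Modules.pullback (f.fiberι s)).obj F) z
  have := Groth.Agent.Fdesc.PullbackStalk.isScalarTower (f.fiberι s)
    ((Scheme.Modules.pullback (f.fiberι s)).obj F) z
  have hbc := Groth.Agent.Fdesc.PullbackStalk.isBaseChange_can (f.fiberι s) F z
  have hsurj : Function.Surjective
      (algebraMap (X.presheaf.stalk (f.fiberι s z)) ((f.fiber s).presheaf.stalk z)) :=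
    Groth.Agent.CycB.FiberKer.stalkMap_fiberι_surjective f s z
  obtain ⟨h1, h2⟩ := exists_equiv_of_isBaseChange hsurj hbc
  have h3 : RingHom.ker (algebraMap (X.presheaf.stalk (f.fiberι s z)) ((f.fiber s).presheaf.stalk z)) =
      mIdeal f (f.fiberι s z) := Groth.Agent.CycB.FiberKer.ker_stalkMap_fiberι f s z
  rw [h3] at h2
  let e := (Submodule.quotEquivOfEq _ _ h2.symm).trans
    (LinearMap.quotKerEquivOfSurjective _ h1)
  let φ := (Ideal.quotEquivOfEq h3.symm).trans (RingHom.quotientKerEquivOfSurjective hsurj)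
  refine flat_of_semilinear φ e.toAddEquiv ?_
  intro r n
  obtain ⟨r, rfl⟩ := Ideal.Quotient.mk_surjective r
  obtain ⟨n, rfl⟩ := Submodule.Quotient.mk_surjective _ n
  change e (r • Submodule.Quotient.mk n) = _
  rw [e.map_smul]
  exact (algebraMap_smul ((f.fiber s).presheaf.stalk z) r (e (Submodule.Quotient.mk n))).symm

theorem flat_of_torsionFree (R : Type u) [CommRing R] [IsRegularLocalRing R]
    (h : ringKrullDim R ≤ 1) (M : Type v) [AddCommGroup M] [Module R M]
    [Module.IsTorsionFree R M] : Module.Flat R M := by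
  obtain ⟨h1, h2⟩ := Groth.Agent.CalgA.SerreLocal.isPrincipalIdealRing_of_isRegularLocalRing h
  infer_instance

theorem exists_free (f : X ⟶ S) [Smooth f] [QuasiCompact f] [QuasiSeparated f] (F : X.Modules)
    (hfp : CohB1.IsFP F) (hfl : FlatMod.IsFlatOver f F)
    (htf : ∀ s : S, TorSh.IsTorsionFree ((Scheme.Modules.pullback (f.fiberι s)).obj F))
    (x : X) (hx : ringKrullDim (CInt.fiberStalk f x) ≤ 1) :
    ∃ (V : X.Opens) (n : ℕ), x ∈ V ∧ Nonempty (F.restrict V.ι ≅ FlatMod.freeMod V n) := by
  have h1 := Groth.Agent.Ega4dA.FibPair1.isRegularLocalRing_fiberStalk f x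
  have h2 : Module.IsTorsionFree (CInt.fiberStalk f x)
      (((Scheme.Modules.pullback (f.fiberι (f x))).obj F).presheaf.stalk (f.asFiber x)) :=
    htf (f x) (f.asFiber x)
  have h3 : Module.Flat ((f.fiber (f x)).presheaf.stalk (f.asFiber x))
      (((Scheme.Modules.pullback (f.fiberι (f x))).obj F).presheaf.stalk (f.asFiber x)) :=
    flat_of_torsionFree (CInt.fiberStalk f x) hx _
  have h4 := flat_quot_of_flat_fiber f F (f x) (f.asFiber x) h3
  rw [f.fiberι_asFiber] at h4
  exact Groth.Agent.S1393.result f F (Groth.Agent.Models2.FPCoh.isQCoh_of_isFP hfp) hfp x (hfl x) h4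

end K887.TFLoc
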